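import Cfsg.Agent.H670.Palfy.Sld

/-!
# The pentagon is not the degree graph of a solvable group: statements of the cases (helper670)

Labels `p, q, s, u, r` (cyclic order of NON-adjacency); `p` divides no degree of `G ⧸ M`.
-/

set_option autoImplicit false

namespace Cfsg.Agent.H670.Palfy

universe u v

/-- `p, q, s, u, r` are distinct vertices, neighbours in this cyclic order are not adjacent. -/
structure Five (p q s u r : ℕ) (G : Type u) [Group G] : Prop where
  hp : p.Prime
  hq : q.Prime
  hs : s.Prime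
  hu : u.Prime
  hr : r.Prime
  rp : Rho p G
  rq : Rho q G
  rs : Rho s G
  ru : Rho u G
  rr : Rho r G
  pq : NA p q G
  qs : NA q s G
  su : NA s u G
  ur : NA u r G
  rrp : NA r p G
  nd : [p, q, s, u, r].Nodup

/-- Reflection. -/
theorem Five.symm {p q s u r : ℕ} {G : Type u} [Group G] (h : Five p q s u r G) : Five p r u s q G where
  hp := h.hp
  hq := h.hr
  hs := h.hu
  hu := h.hs
  hr := h.hq
  rp := h.rp
  rq := h.rr
  rs := h.ru
  ru := h.rs
  rr := h.rq
  pq := fun e he h1 h2 => h.rrp e he h2 h1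
  qs := fun e he h1 h2 => h.ur e he h2 h1
  su := fun e he h1 h2 => h.su e he h2 h1
  ur := fun e he h1 h2 => h.qs e he h2 h1
  rrp := fun e he h1 h2 => h.pq e he h2 h1
  nd := by
    have := h.nd
    simp only [List.nodup_cons, List.mem_cons, List.not_mem_nil, or_false, not_or] at this ⊢
    tauto

/-- Rotation. -/
theorem Five.rot {p q s u r : ℕ} {G : Type u} [Group G] (h : Five p q s u r G) : Five q s u r p G where
  hp := h.hq
  hq := h.hs
  hs := h.hu
  hu := h.hr
  hr := h.hp
  rp := h.rq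
  rq := h.rs
  rs := h.ru
  ru := h.rr
  rr := h.rp
  pq := h.qs
  qs := h.su
  su := h.ur
  ur := h.rrp
  rrp := h.pq
  nd := by
    have := h.nd
    simp only [List.nodup_cons, List.mem_cons, List.not_mem_nil, or_false, not_or] at this ⊢
    tauto

/-- If all degrees of the normal subgroup `K`, of index prime to `z`, are prime to `z`, the Sylow
`z`-subgroup of `H` is normal, commutative and contained in `K`. -/
theorem sylow_of_normal {H : Type u} [Group H] [Finite H] (hH : Group.IsSolvable H) {z : ℕ}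
    [hz : Fact z.Prime] (K : Subgroup H) [hK : K.Normal] (hi : ¬ z ∣ K.index)
    (hd : ∀ e ∈ Cfsg.charDegrees K, ¬ z ∣ e) (Q : Sylow z H) :
    (Q : Subgroup H).Normal ∧ (∀ a ∈ (Q : Subgroup H), ∀ b ∈ (Q : Subgroup H), a * b = b * a) ∧
      (Q : Subgroup H) ≤ K := by
  have hKs : Group.IsSolvable K := inferInstance
  -- a Sylow subgroup of `H` in `K`
  have hle : (Q : Subgroup H) ≤ K := by
    obtain ⟨Q1, hQ1⟩ := exists_sylow_le (z := z) K hi
    obtain ⟨g, rfl⟩ := MulAction.exists_smul_eq H Q1 Q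
    intro x hx
    have h1 := hK.conj_mem _ (hQ1 (mem_smul_sylow.1 hx)) g
    have h2 : g * (g⁻¹ * x * g) * g⁻¹ = x := by group
    rwa [h2] at h1
  obtain ⟨h1, h2⟩ := im_solvable hKs hd (Q.subtype hle)
  refine ⟨?_, ?_, hle⟩
  · -- the only Sylow subgroup of `K`
    have : Unique (Sylow z K) := Sylow.unique_of_normal _ h1
    refine ⟨fun x hx g => ?_⟩
    have h3 : ((g • Q : Sylow z H) : Subgroup H) ≤ K := by
      intro y hy
      have h4 := hK.conj_mem _ (hle (mem_smul_sylow.1 hy)) g
      have h5 : g * (g⁻¹ * y * g) * g⁻¹ = y := by group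
      rwa [h5] at h4
    have h4 : (g • Q : Sylow z H).subtype h3 = Q.subtype hle := Subsingleton.elim _ _
    have h5 : g * x * g⁻¹ ∈ ((g • Q : Sylow z H) : Subgroup H) := by
      rw [mem_smul_sylow]
      have h6 : g⁻¹ * (g * x * g⁻¹) * g = x := by group
      rwa [h6]
    have h6 : (⟨g * x * g⁻¹, h3 h5⟩ : K) ∈ (((g • Q : Sylow z H).subtype h3 : Sylow z K) : Subgroup K) := h5
    rw [h4] at h6
    exact h6
  · intro a ha b hb
    have h3 := h2 ⟨a, hle ha⟩ ha ⟨b, hle hb⟩ hb
    exact congrArg Subtype.val h3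

/-- Configuration 1. -/
def Penta1 : Prop := ∀ (G : Type u) [Group G] [Finite G], Group.IsSolvable G →
  ∀ (M : Subgroup G) [M.Normal] (H : Subgroup G) (p q s u r : ℕ), Five p q s u r G →
    T1 G M H p → False

/-- Configuration 2, `q` and `r` nontrivial on `V`. -/
def Penta2a : Prop := ∀ (G : Type u) [Group G] [Finite G], Group.IsSolvable G →
  ∀ (M P : Subgroup G) [M.Normal] [P.Normal] (H : Subgroup G) (p q s u r : ℕ), Five p q s u r G →
    T2 G M P H p → (∀ M' : Subgroup G, MinN M' → M' ≤ P → M' ⊓ M = ⊥ → False) →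
    (∀ Q : Sylow q H, ¬ Triv (LC M) (Q : Subgroup H)) →
    (∀ R : Sylow r H, ¬ Triv (LC M) (R : Subgroup H)) → False

/-- Configuration 2, `q` trivial and `r` nontrivial on `V`. -/
def Penta2b : Prop := ∀ (G : Type u) [Group G] [Finite G], Group.IsSolvable G →
  ∀ (M P : Subgroup G) [M.Normal] [P.Normal] (H : Subgroup G) (p q s u r : ℕ), Five p q s u r G →
    T2 G M P H p →
    (∀ Q : Sylow q H, Triv (LC M) (Q : Subgroup H)) →
    (∀ R : Sylow r H, ¬ Triv (LC M) (R : Subgroup H)) → False

/-- Configuration 2, `q` and `r` trivial on `V`. -/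
def Penta2c : Prop := ∀ (G : Type u) [Group G] [Finite G], Group.IsSolvable G →
  ∀ (M P : Subgroup G) [M.Normal] [P.Normal] (H : Subgroup G) (p q s u r : ℕ), Five p q s u r G →
    T2 G M P H p →
    (∀ Q : Sylow q H, Triv (LC M) (Q : Subgroup H)) →
    (∀ R : Sylow r H, Triv (LC M) (R : Subgroup H)) → False

/-- The pentagon is not the degree graph of a solvable group. -/
def NoPenta : Prop := ∀ (G : Type u) [Group G] [Finite G], Group.IsSolvable G →
  ∀ p q s u r : ℕ, Five p q s u r G → (∀ t : ℕ, t.Prime → Rho t G → t ∈ [p, q, s, u, r]) → False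

/-- The structure theorem for faithful modules. -/
def FactSLF : Prop := ∀ (H : Type u) (V : Type v) [Group H] [AddCommGroup V] [DistribMulAction H V]
  [Finite H] [Finite V] (p n s : ℕ), Group.IsSolvable H → p.Prime → 0 < n → Nat.card V = p ^ n →
  Irr H V → (∀ h : H, (∀ v : V, h • v = v) → h = 1) → s.Prime → s ≠ p → UF s H (⊥ : AddSubgroup V) →
  (∃ Z : Sylow s H, ¬ Triv V (Z : Subgroup H)) → ∃ C : Subgroup H, SLD H V C p n

end Cfsg.Agent.H670.Palfy
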