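import Cfsg.Prelude.Def_DegreeGraph
import Mathlib

/-!
# Degree graphs of solvable groups: common definitions (helper670)

* `LC N` : the additive group of the linear characters of the normal subgroup `N` of `G`, with the
  conjugation action of `G`;
* `UF s H N` : every vector outside `N` is fixed by exactly one Sylow `s`-subgroup of `H`;
* `Cfg D H V k` : for `v ≠ 0` and `d` a degree of the stabilizer `H_v`, the number `|H : H_v| d`
  divides an element of `D` divisible by `k`;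
* `com Z V` : the additive subgroup `[V, Z]` generated by the vectors `z v - v`;
* `NA a b G` : no degree of `G` is divisible by `a` and `b`; `Rho p G` : `p` divides a degree of `G`;
* `T1 G M H p`, `T2 G M P H p` : the two configurations of a minimal normal subgroup `M` of `G` and a
  prime `p` which divides a degree of `G` but no degree of `G ⧸ M`.
-/

set_option autoImplicit false

namespace Cfsg.Agent.H670.Palfy

universe u v

section LC

variable {G : Type u} [Group G]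

/-- The additive group of linear characters of a subgroup. -/
def LC (N : Subgroup G) : Type u := Additive (↥N →* ℂˣ)

noncomputable instance instLC (N : Subgroup G) : AddCommGroup (LC N) :=
  inferInstanceAs (AddCommGroup (Additive (↥N →* ℂˣ)))

/-- The linear character of a vector. -/
def LC.hom {N : Subgroup G} (l : LC N) : ↥N →* ℂˣ := Additive.toMul l

/-- The vector of a linear character. -/
def LC.of {N : Subgroup G} (f : ↥N →* ℂˣ) : LC N := Additive.ofMul f

theorem LC.hom_of {N : Subgroup G} (f : ↥N →* ℂˣ) : (LC.of f).hom = f := rfl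

theorem LC.of_hom {N : Subgroup G} (l : LC N) : LC.of l.hom = l := rfl

theorem LC.ext {N : Subgroup G} {l m : LC N} (h : ∀ n, l.hom n = m.hom n) : l = m :=
  (MonoidHom.ext h : l.hom = m.hom)

theorem LC.hom_zero {N : Subgroup G} (n : N) : (0 : LC N).hom n = 1 := rfl

theorem LC.hom_add {N : Subgroup G} (l m : LC N) (n : N) : (l + m).hom n = l.hom n * m.hom n := rfl

theorem LC.hom_neg {N : Subgroup G} (l : LC N) (n : N) : (-l).hom n = (l.hom n)⁻¹ := rfl

noncomputable instance instDistLC (N : Subgroup G) [N.Normal] : DistribMulAction G (LC N) where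
  smul g l := LC.of (l.hom.comp (MulAut.conjNormal (H := N) g⁻¹).toMonoidHom)
  one_smul l := by
    apply LC.ext
    intro n
    change l.hom (MulAut.conjNormal (H := N) (1 : G)⁻¹ n) = l.hom n
    rw [inv_one, map_one, MulAut.one_apply]
  mul_smul g h l := by
    apply LC.ext
    intro n
    change l.hom (MulAut.conjNormal (H := N) (g * h)⁻¹ n) =
      l.hom (MulAut.conjNormal (H := N) h⁻¹ (MulAut.conjNormal (H := N) g⁻¹ n))
    rw [mul_inv_rev, map_mul, MulAut.mul_apply]
  smul_zero g := rfl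
  smul_add g l m := rfl

theorem LC.smul_hom (N : Subgroup G) [hN : N.Normal] (g : G) (l : LC N) (n : N) :
    (g • l).hom n = l.hom ⟨g⁻¹ * n * g, by
      have := hN.conj_mem n n.2 g⁻¹
      rwa [inv_inv] at this⟩ := by
  change l.hom (MulAut.conjNormal (H := N) g⁻¹ n) = _
  congr 1
  apply Subtype.ext
  simp

end LC

/-- Every vector outside `N` is fixed by exactly one Sylow `s`-subgroup of `H`. -/
def UF (s : ℕ) (H : Type u) {V : Type v} [Group H] [AddCommGroup V] [DistribMulAction H V]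
    (N : AddSubgroup V) : Prop :=
  ∀ v : V, v ∉ N → ∃! Q : Sylow s H, ∀ x ∈ (Q : Subgroup H), x • v = v

/-- `H` acts irreducibly on `V`. -/
def Irr (H : Type u) (V : Type v) [Group H] [AddCommGroup V] [DistribMulAction H V] : Prop :=
  ∀ W : AddSubgroup V, (∀ h : H, ∀ w ∈ W, h • w ∈ W) → W = ⊥ ∨ W = ⊤

/-- Degrees over the nonzero vectors of `V`. -/
def Cfg (D : Set ℕ) (H : Type u) (V : Type v) [Group H] [AddCommGroup V] [DistribMulAction H V]
    (k : ℕ) : Prop :=
  ∀ v : V, v ≠ 0 → ∀ d ∈ Cfsg.charDegrees (MulAction.stabilizer H v),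
    ∃ e ∈ D, (MulAction.stabilizer H v).index * d ∣ e ∧ k ∣ e

/-- `[V, Z]`. -/
def com {H : Type u} (V : Type v) [Group H] [AddCommGroup V] [DistribMulAction H V]
    (Z : Subgroup H) : AddSubgroup V :=
  AddSubgroup.closure {w : V | ∃ z ∈ Z, ∃ v : V, w = z • v - v}

/-- No degree is divisible by `a` and `b`. -/
def NA (a b : ℕ) (G : Type u) [Group G] : Prop := ∀ e ∈ Cfsg.charDegrees G, a ∣ e → b ∣ e → False

/-- Some degree is divisible by `p`. -/
def Rho (p : ℕ) (G : Type u) [Group G] : Prop := ∃ e ∈ Cfsg.charDegrees G, p ∣ e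

/-- `h` acts trivially on `V`. -/
def Triv {H : Type u} (V : Type v) [Group H] [AddCommGroup V] [DistribMulAction H V]
    (Z : Subgroup H) : Prop := ∀ z ∈ Z, ∀ v : V, z • v = v

/-- Minimal normal subgroups. -/
structure MinN {G : Type u} [Group G] (M : Subgroup G) : Prop where
  ne : M ≠ ⊥
  nrm : M.Normal
  min : ∀ N : Subgroup G, N.Normal → N ≤ M → N = ⊥ ∨ N = M

/-- The first configuration: `M` has a complement `H`, and all degrees of `G` over nontrivial characters of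
`M` are divisible by `p`. -/
structure T1 (G : Type u) [Group G] (M : Subgroup G) [M.Normal] (H : Subgroup G) (p : ℕ) : Prop where
  compl : M.IsComplement' H
  irr : Irr H (LC M)
  card : ∃ l n : ℕ, l.Prime ∧ l ≠ p ∧ 0 < n ∧ Nat.card (LC M) = l ^ n
  cd : Cfsg.charDegrees H ⊆ Cfsg.charDegrees G
  cfg : Cfg (Cfsg.charDegrees G) H (LC M) p
  nt : ∀ z : ℕ, z.Prime → Rho z G → ∀ Z : Sylow z H, (Z : Subgroup H).Normal →
    (∀ a ∈ (Z : Subgroup H), ∀ b ∈ (Z : Subgroup H), a * b = b * a) → Triv (LC M) (Z : Subgroup H) → False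

/-- The group theoretic part of the second configuration. -/
structure T2pre (G : Type u) [Group G] (M P : Subgroup G) (H : Subgroup G) (p : ℕ) : Prop where
  prime : p.Prime
  minN : MinN M
  nrm : P.Normal
  isP : IsPGroup p P
  compl : P.IsComplement' H
  comm : ⁅P, P⁆ = M
  cen : ∀ m ∈ M, ∀ x ∈ P, m * x = x * m
  ndvd : ¬ p ∣ Nat.card H

/-- The second configuration: `P` is a normal Sylow `p`-subgroup of `G`, `M` its commutator subgroup,
contained in its centre, and `H` a complement of `P`. -/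
structure T2 (G : Type u) [Group G] (M P : Subgroup G) [M.Normal] [P.Normal] (H : Subgroup G)
    (p : ℕ) : Prop where
  compl : P.IsComplement' H
  comm : ⁅P, P⁆ = M
  ndvd : ¬ p ∣ Nat.card H
  irr : Irr H (LC M)
  card : ∃ n : ℕ, 0 < n ∧ Nat.card (LC M) = p ^ n
  cardW : ∃ n : ℕ, Nat.card (LC P) = p ^ n
  cd : Cfsg.charDegrees H ⊆ Cfsg.charDegrees G
  cfgV : Cfg (Cfsg.charDegrees G) H (LC M) p
  cfgW : Cfg (Cfsg.charDegrees G) H (LC P) 1
  ker : ∀ h : H, (∀ w : LC P, h • w = w) → ∀ v : LC M, h • v = v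
  nt : ∀ z : ℕ, z.Prime → z ≠ p → Rho z G → ∀ Z : Sylow z H, (Z : Subgroup H).Normal →
    (∀ a ∈ (Z : Subgroup H), ∀ b ∈ (Z : Subgroup H), a * b = b * a) → Triv (LC P) (Z : Subgroup H) → False
  /-- the case of a prime `z` not adjacent to `p` -/
  ker_com : ∀ z : ℕ, z.Prime → z ≠ p → NA p z G → ∀ Z : Sylow z H, (Z : Subgroup H).Normal →
    Triv (LC M) (Z : Subgroup H) → ¬ Triv (LC P) (Z : Subgroup H) →
    ∀ h : H, (∀ w ∈ com (LC P) (Z : Subgroup H), h • w = w) → ∀ v : LC M, h • v = v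
  card_com : ∀ z : ℕ, z.Prime → z ≠ p → NA p z G → ∀ Z : Sylow z H, (Z : Subgroup H).Normal →
    Triv (LC M) (Z : Subgroup H) → ¬ Triv (LC P) (Z : Subgroup H) →
    Nat.card (LC M) < Nat.card (com (LC P) (Z : Subgroup H))
  pow_com : ∀ z : ℕ, z.Prime → z ≠ p → NA p z G → ∀ Z : Sylow z H, (Z : Subgroup H).Normal →
    Triv (LC M) (Z : Subgroup H) → ¬ Triv (LC P) (Z : Subgroup H) →
    ∀ n : ℕ, Nat.card (com (LC P) (Z : Subgroup H)) = p ^ n → ∀ g : H, (∀ v : LC M, g • v = v) →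
    (∀ Y : AddSubgroup (LC P), Y ≤ com (LC P) (Z : Subgroup H) → (∀ y ∈ Y, g • y ∈ Y) →
      Y = ⊥ ∨ Y = com (LC P) (Z : Subgroup H)) →
    ∃ i < n, ∀ w ∈ com (LC P) (Z : Subgroup H), g ^ (p ^ i + 1) • w = w
  /-- the case of any prime `z` -/
  ker_or : ∀ z : ℕ, z.Prime → z ≠ p → ∀ Z : Sylow z H, (Z : Subgroup H).Normal →
    Triv (LC M) (Z : Subgroup H) → ¬ Triv (LC P) (Z : Subgroup H) →
    (∀ h : H, (∀ w ∈ com (LC P) (Z : Subgroup H), h • w = w) → ∀ v : LC M, h • v = v) ∨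
      ∃ M' : Subgroup G, MinN M' ∧ M' ≤ P ∧ M' ⊓ M = ⊥

/-- The kernel of the action. -/
def Ker (H : Type u) (V : Type v) [Group H] [AddCommGroup V] [DistribMulAction H V] : Subgroup H where
  carrier := {h | ∀ v : V, h • v = v}
  one_mem' := fun v => one_smul H v
  mul_mem' := fun {a b} ha hb v => by rw [mul_smul, hb v, ha v]
  inv_mem' := fun {a} ha v => by
    have h1 := ha (a⁻¹ • v)
    rw [smul_inv_smul] at h1
    exact h1.symm

theorem mem_Ker {H : Type u} {V : Type v} [Group H] [AddCommGroup V] [DistribMulAction H V] {h : H} :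
    h ∈ Ker H V ↔ ∀ v : V, h • v = v := Iff.rfl

instance instKerNormal {H : Type u} {V : Type v} [Group H] [AddCommGroup V] [DistribMulAction H V] :
    (Ker H V).Normal := by
  refine ⟨fun k hk g v => ?_⟩
  rw [mul_smul, mul_smul, hk, smul_inv_smul]

/-- The vectors fixed by `Z`. -/
def fixed {H : Type u} (V : Type v) [Group H] [AddCommGroup V] [DistribMulAction H V]
    (Z : Subgroup H) : AddSubgroup V where
  carrier := {v | ∀ z ∈ Z, z • v = v}
  zero_mem' := fun z _ => smul_zero z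
  add_mem' := fun {a b} ha hb z hz => by rw [smul_add, ha z hz, hb z hz]
  neg_mem' := fun {a} ha z hz => by rw [smul_neg, ha z hz]

theorem mem_fixed {H : Type u} {V : Type v} [Group H] [AddCommGroup V] [DistribMulAction H V]
    {Z : Subgroup H} {v : V} : v ∈ fixed V Z ↔ ∀ z ∈ Z, z • v = v := Iff.rfl

/-- The structure of a solvable group `H` acting irreducibly on `V`, of order `p ^ n`: a normal subgroup
`C` acting as a group of scalars of the field of order `p ^ n`, `H / C` acting as field automorphisms. -/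
structure SLD (H : Type u) (V : Type v) [Group H] [AddCommGroup V] [DistribMulAction H V]
    (C : Subgroup H) (p n : ℕ) : Prop where
  nrm : C.Normal
  card : Nat.card V = p ^ n
  ker : Ker H V ≤ C
  free : ∀ c ∈ C, ∀ v : V, v ≠ 0 → c • v = v → c ∈ Ker H V
  comm : ∀ a ∈ C, ∀ b ∈ C, a * b * a⁻¹ * b⁻¹ ∈ Ker H V
  quot : ∀ a b : H, a * b * a⁻¹ * b⁻¹ ∈ C
  /-- a generator, acting irreducibly -/
  gen : ∃ g ∈ C, (∀ c ∈ C, ∃ k : ℕ, c * (g ^ k)⁻¹ ∈ Ker H V) ∧
    ∀ Y : AddSubgroup V, (∀ y ∈ Y, g • y ∈ Y) → Y = ⊥ ∨ Y = ⊤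
  deg : C.index ∈ Cfsg.charDegrees H
  dvd : C.index ∣ n
  stab : ∀ v : V, v ≠ 0 → (Ker H V).relIndex C ∣ (MulAction.stabilizer H v).index
  uf : ∀ z : ℕ, z.Prime → UF z H (⊥ : AddSubgroup V) → ∀ Z : Sylow z H, ¬ Triv V (Z : Subgroup H) →
    z ∣ C.index ∧ ¬ z ∣ (Ker H V).relIndex C ∧
    ∃ k m : ℕ, 0 < k ∧ n = m * z ^ k ∧ Nat.card (fixed V (Z : Subgroup H)) = p ^ m ∧
      (p ^ n - 1) / (p ^ m - 1) ≡ 1 [MOD z] ∧ (p ^ n - 1) / (p ^ m - 1) ∣ (Ker H V).relIndex C

/-- The structure theorem. -/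
def FactSL : Prop := ∀ (H : Type u) (V : Type v) [Group H] [AddCommGroup V] [DistribMulAction H V]
  [Finite H] [Finite V] (p n s : ℕ), Group.IsSolvable H → p.Prime → 0 < n → Nat.card V = p ^ n →
  Irr H V → s.Prime → s ≠ p → UF s H (⊥ : AddSubgroup V) →
  (∃ Z : Sylow s H, ¬ Triv V (Z : Subgroup H)) → ∃ C : Subgroup H, SLD H V C p n

/-- Zsigmondy primes. -/
def FactNum : Prop := ∀ (p n : ℕ) (B W : Finset ℕ) (m k : ℕ → ℕ), p.Prime → 0 < n → B ⊆ W →
  2 ≤ B.card → (∀ w ∈ W, w.Prime ∧ w ∣ n) →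
  (∀ z ∈ B, 0 < k z ∧ n = m z * z ^ k z ∧ (p ^ n - 1) / (p ^ m z - 1) ≡ 1 [MOD z]) →
  W.card + 1 ≤ (∏ z ∈ B, (p ^ n - 1) / (p ^ m z - 1)).primeFactors.card

/-! ### The facts to be proved (`G` finite, mostly solvable) -/

/-- `M` is not a `p`-group: the first configuration. -/
def FactT1 : Prop := ∀ (G : Type u) [Group G] [Finite G], Group.IsSolvable G →
  ∀ (M : Subgroup G) [M.Normal] (p : ℕ), p.Prime → MinN M → Rho p G → ¬ Rho p (G ⧸ M) →
    ¬ IsPGroup p M → ∃ H : Subgroup G, T1 G M H p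

/-- `M` is a `p`-group: the group theoretic part of the second configuration. -/
def FactT2pre : Prop := ∀ (G : Type u) [Group G] [Finite G], Group.IsSolvable G →
  ∀ (M : Subgroup G) [M.Normal] (p : ℕ), p.Prime → MinN M → Rho p G → ¬ Rho p (G ⧸ M) →
    IsPGroup p M → ∃ P H : Subgroup G, T2pre G M P H p

/-- The fields of `T2` on degrees. -/
def FactT2a : Prop := ∀ (G : Type u) [Group G] [Finite G], Group.IsSolvable G →
  ∀ (M P H : Subgroup G) [M.Normal] [P.Normal] (p : ℕ), T2pre G M P H p →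
    Irr H (LC M) ∧ (∃ n : ℕ, 0 < n ∧ Nat.card (LC M) = p ^ n) ∧ (∃ n : ℕ, Nat.card (LC P) = p ^ n) ∧
    Cfsg.charDegrees H ⊆ Cfsg.charDegrees G ∧
    Cfg (Cfsg.charDegrees G) H (LC M) p ∧ Cfg (Cfsg.charDegrees G) H (LC P) 1 ∧
    (∀ h : H, (∀ w : LC P, h • w = w) → ∀ v : LC M, h • v = v) ∧
    ∀ z : ℕ, z.Prime → z ≠ p → Rho z G → ∀ Z : Sylow z H, (Z : Subgroup H).Normal →
      (∀ a ∈ (Z : Subgroup H), ∀ b ∈ (Z : Subgroup H), a * b = b * a) →
        Triv (LC P) (Z : Subgroup H) → False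

/-- The fields of `T2` on a normal Sylow subgroup `Z` of `H` trivial on `M`. -/
def FactT2b : Prop := ∀ (G : Type u) [Group G] [Finite G], Group.IsSolvable G →
  ∀ (M P H : Subgroup G) [M.Normal] [P.Normal] (p : ℕ), T2pre G M P H p →
    ∀ z : ℕ, z.Prime → z ≠ p → ∀ Z : Sylow z H, (Z : Subgroup H).Normal →
    Triv (LC M) (Z : Subgroup H) → ¬ Triv (LC P) (Z : Subgroup H) →
    (NA p z G →
      (∀ h : H, (∀ w ∈ com (LC P) (Z : Subgroup H), h • w = w) → ∀ v : LC M, h • v = v) ∧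
      Nat.card (LC M) < Nat.card (com (LC P) (Z : Subgroup H)) ∧
      ∀ n : ℕ, Nat.card (com (LC P) (Z : Subgroup H)) = p ^ n → ∀ g : H, (∀ v : LC M, g • v = v) →
        (∀ Y : AddSubgroup (LC P), Y ≤ com (LC P) (Z : Subgroup H) → (∀ y ∈ Y, g • y ∈ Y) →
          Y = ⊥ ∨ Y = com (LC P) (Z : Subgroup H)) →
        ∃ i < n, ∀ w ∈ com (LC P) (Z : Subgroup H), g ^ (p ^ i + 1) • w = w) ∧
    ((∀ h : H, (∀ w ∈ com (LC P) (Z : Subgroup H), h • w = w) → ∀ v : LC M, h • v = v) ∨
      ∃ M' : Subgroup G, MinN M' ∧ M' ≤ P ∧ M' ⊓ M = ⊥)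

theorem T2.of {G : Type u} [Group G] [Finite G] (hG : Group.IsSolvable G)
    {M P H : Subgroup G} [M.Normal] [P.Normal] {p : ℕ} (h : T2pre G M P H p)
    (fa : FactT2a.{u}) (fb : FactT2b.{u}) : T2 G M P H p := by
  obtain ⟨h1, h2, h3, h4, h5, h6, h7, h8⟩ := fa G hG M P H p h
  exact {
    compl := h.compl
    comm := h.comm
    ndvd := h.ndvd
    irr := h1
    card := h2
    cardW := h3
    cd := h4
    cfgV := h5
    cfgW := h6
    ker := h7
    nt := h8
    ker_com := fun z hz hzp hna Z hZ hV hW => ((fb G hG M P H p h z hz hzp Z hZ hV hW).1 hna).1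
    card_com := fun z hz hzp hna Z hZ hV hW => ((fb G hG M P H p h z hz hzp Z hZ hV hW).1 hna).2.1
    pow_com := fun z hz hzp hna Z hZ hV hW => ((fb G hG M P H p h z hz hzp Z hZ hV hW).1 hna).2.2
    ker_or := fun z hz hzp Z hZ hV hW => (fb G hG M P H p h z hz hzp Z hZ hV hW).2 }

end Cfsg.Agent.H670.Palfy
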