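import Cfsg.Agent.H670.Palfy.SL
import Cfsg.Agent.H352.Penta
import Cfsg.Agent.H173.Penta.B
import Cfsg.Agent.H173.Penta.C
import Cfsg.Agent.H306.Penta.Glue
import Cfsg.Agent.H415.Palfy.T1
import Cfsg.Agent.H55.Palfy.Main
import Cfsg.Agent.H161.PalFb

/-!
# Five primes, cyclic neighbours not adjacent: not in the degree graph of a solvable group (helper670)

The argument of `H306.Penta.Glue.noPenta_aux` without the condition that there are no other vertices.
-/

set_option autoImplicit false
set_option linter.style.haveILetI false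

namespace Cfsg.Agent.H670.Palfy

open Cfsg.Agent.H377.DegSolv Subgroup Cfsg.Agent.H306.Penta

universe u

theorem pent_aux (h1 : Penta1.{u}) (h2a : Penta2a.{u}) (h2b : Penta2b.{u}) (h2c : Penta2c.{u})
    (f1 : FactT1.{u}) (hpre : FactT2pre.{u}) (ha : FactT2a.{u}) (hb : FactT2b.{u}) (N : ℕ) :
    ∀ (G : Type u) [Group G] [Finite G], Nat.card G = N → Group.IsSolvable G →
    ∀ p q s u r : ℕ, Five p q s u r G → False := by
  induction N using Nat.strong_induction_on with
  | _ N ih =>
    intro G _ _ hc hG p0 q0 s0 u0 r0 h0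
    -- no proper quotient has the same vertices
    have hq : ∀ (M : Subgroup G) [M.Normal], M ≠ ⊥ → ∃ t ∈ [p0, q0, s0, u0, r0], ¬ Rho t (G ⧸ M) := by
      intro M _ hM
      by_contra hcon
      push Not at hcon
      have hlt : Nat.card (G ⧸ M) < N := hc ▸ card_quot_lt hM
      have hGM : Group.IsSolvable (G ⧸ M) := inferInstance
      exact ih _ hlt (G ⧸ M) rfl hGM p0 q0 s0 u0 r0 (five_quot h0 hcon)
    have hnt : Nontrivial G := nontrivial_of_rho h0.hp h0.rp
    -- a minimal normal subgroup which is not a `p`-group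
    have key1 : ∀ (M : Subgroup G), MinN M → ∀ p q s u r : ℕ, Five p q s u r G →
        ∀ [M.Normal], ¬ Rho p (G ⧸ M) → ¬ IsPGroup p M → False := by
      intro M hM p q s u r h _ hp hPM
      obtain ⟨H, h3⟩ := f1 G hG M p h.hp hM h.rp hp hPM
      exact h1 G hG M H p q s u r h h3
    have key : ∀ (M : Subgroup G), MinN M → ∀ p q s u r : ℕ, Five p q s u r G →
        (∀ x, x ∈ [p, q, s, u, r] ↔ x ∈ [p0, q0, s0, u0, r0]) →
        ∀ [M.Normal], ¬ Rho p (G ⧸ M) → False := by
      intro M hM p q s u r h hl _ hp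
      by_cases hPM : IsPGroup p M
      swap
      · exact key1 M hM p q s u r h hp hPM
      haveI hpf : Fact p.Prime := ⟨h.hp⟩
      haveI hqf : Fact q.Prime := ⟨h.hq⟩
      haveI hrf : Fact r.Prime := ⟨h.hr⟩
      obtain ⟨P, H, h3⟩ := hpre G hG M p h.hp hM h.rp hp hPM
      haveI := h3.nrm
      have hT := T2.of hG h3 ha hb
      -- the additional hypothesis of case (a)
      have hex : ∀ M' : Subgroup G, MinN M' → M' ≤ P → M' ⊓ M = ⊥ → False := by
        intro M' hM' hle hinf
        haveI := hM'.nrm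
        obtain ⟨t, ht, htr⟩ := hq M' hM'.ne
        have hpM' : IsPGroup p M' := h3.isP.to_le hle
        by_cases htp : t = p
        · subst htp
          obtain ⟨P1, H1, h4⟩ := hpre G hG M' t h.hp hM' h.rp htr hpM'
          haveI := h4.nrm
          have e1 : P = P1 := by
            refine le_antisymm (le_of_pgroup h3.isP ?_) (le_of_pgroup h4.isP ?_)
            · rw [h4.compl.symm.index_eq_card]; exact h4.ndvd
            · rw [h3.compl.symm.index_eq_card]; exact h3.ndvd
          have e2 : M' = M := by rw [← h4.comm, ← h3.comm, e1]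
          rw [e2, inf_idem] at hinf
          exact hM.ne hinf
        · obtain ⟨a, b, c, d, h5, -⟩ := five_rot h0 ht
          haveI htf : Fact t.Prime := ⟨h5.hp⟩
          refine key1 M' hM' t a b c d h5 htr fun h6 => ?_
          have h7 := IsPGroup.disjoint_of_ne t p htp M' M' h6 hpM'
          exact hM'.ne (disjoint_self.1 h7)
      by_cases hQ : ∀ Q : Sylow q H, ¬ Triv (LC M) (Q : Subgroup H)
      · by_cases hR : ∀ R : Sylow r H, ¬ Triv (LC M) (R : Subgroup H)
        · exact h2a G hG M P H p q s u r h hT hex hQ hR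
        · push Not at hR
          obtain ⟨R0, hR0⟩ := hR
          exact h2b G hG M P H p r u s q h.symm hT (fun R => triv_conj hR0 R) hQ
      · push Not at hQ
        obtain ⟨Q0, hQ0⟩ := hQ
        by_cases hR : ∀ R : Sylow r H, ¬ Triv (LC M) (R : Subgroup H)
        · exact h2b G hG M P H p q s u r h hT (fun Q => triv_conj hQ0 Q) hR
        · push Not at hR
          obtain ⟨R0, hR0⟩ := hR
          exact h2c G hG M P H p q s u r h hT (fun Q => triv_conj hQ0 Q) (fun R => triv_conj hR0 R)
    obtain ⟨M, hM⟩ := exists_minN (G := G)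
    haveI := hM.nrm
    obtain ⟨t, ht, htr⟩ := hq M hM.ne
    obtain ⟨a, b, c, d, h5, h6⟩ := five_rot h0 ht
    exact key M hM t a b c d h5 h6 htr

theorem pent {G : Type u} [Group G] [Finite G] (hG : Group.IsSolvable G) {p q s u r : ℕ}
    (h : Five p q s u r G) : False :=
  pent_aux (H352.Penta.penta1 factSL) (H352.Penta.penta2a factSL) (H173.Penta.penta2b factSL)
    (H173.Penta.penta2c factSL) H415.Palfy.factT1 H415.Palfy.factT2pre H55.T2a.factT2a
    H161.PalFb.factT2b _ G rfl hG p q s u r h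

theorem mem_degreePrimes {G : Type u} [Group G] [Finite G] {p : ℕ} (h : p ∈ Cfsg.degreePrimes G) :
    p.Prime ∧ Rho p G := by
  obtain ⟨h1, d, hd, h2⟩ := h
  exact ⟨h1, d, hd, h2⟩

/-- Five primes in cyclic order, neighbours not adjacent. -/
theorem hPent (G : Type u) [Group G] [Finite G] (hG : Group.IsSolvable G) (v : Fin 5 → ℕ)
    (hinj : Function.Injective v) (hv : ∀ i, v i ∈ Cfsg.degreePrimes G)
    (hna : ∀ i, ¬ (Cfsg.degreeGraph G).Adj (v i) (v (i + 1))) : False := by
  have hp : ∀ i, (v i).Prime ∧ Rho (v i) G := fun i => mem_degreePrimes (hv i)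
  have hne : ∀ i j : Fin 5, i ≠ j → v i ≠ v j := fun i j h h1 => h (hinj h1)
  have hNA : ∀ i, NA (v i) (v (i + 1)) G := by
    intro i e he h1 h2
    have hij : v i ≠ v (i + 1) := by
      exact hne _ _ ((by decide : ∀ i : Fin 5, i ≠ i + 1) i)
    exact hna i ⟨hij, (hp i).1, (hp (i + 1)).1, e, he,
      ((Nat.coprime_primes (hp i).1 (hp (i + 1)).1).2 hij).mul_dvd_of_dvd_of_dvd h1 h2⟩
  refine pent hG (p := v 0) (q := v 1) (s := v 2) (u := v 3) (r := v 4)
    { hp := (hp 0).1, hq := (hp 1).1, hs := (hp 2).1, hu := (hp 3).1, hr := (hp 4).1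
      rp := (hp 0).2, rq := (hp 1).2, rs := (hp 2).2, ru := (hp 3).2, rr := (hp 4).2
      pq := hNA 0, qs := hNA 1, su := hNA 2, ur := hNA 3, rrp := hNA 4
      nd := ?_ }
  have h0 := hne 0
  have h1 := hne 1
  have h2 := hne 2
  have h3 := hne 3
  simp only [List.nodup_cons, List.mem_cons, List.not_mem_nil, or_false, not_or, List.nodup_nil,
    not_false_eq_true, and_true]
  exact ⟨⟨h0 1 (by decide), h0 2 (by decide), h0 3 (by decide), h0 4 (by decide)⟩,
    ⟨h1 2 (by decide), h1 3 (by decide), h1 4 (by decide)⟩, ⟨h2 3 (by decide), h2 4 (by decide)⟩,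
    h3 4 (by decide)⟩

end Cfsg.Agent.H670.Palfy
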