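import Cfsg.Agent.H670.Palfy.Base
import Cfsg.Agent.PermutationGroups.HalfTransField

/-!
# The field generated by an irreducible element (helper670)

`H` acts on `V`, `x ∈ H` acts irreducibly, `⟨x⟩` is normal in `H`.
-/

set_option autoImplicit false
set_option linter.unusedSectionVars false
set_option linter.style.haveILetI false

namespace Cfsg.Agent.H670.Palfy

open Subgroup Cfsg.Agent.PermutationGroups.HalfTransField

universe u v

/-- Fixed points of a group of automorphisms of a finite field. -/
theorem card_fixed_pow (F : Type v) [Field F] [Finite F] (G : Subgroup (RingAut F)) :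
    Nat.card F = Nat.card {k : F // ∀ g ∈ G, g k = k} ^ Nat.card G := by
  haveI : Finite (RingAut F) := Finite.of_injective (fun f : RingAut F => (f : F → F))
    DFunLike.coe_injective
  haveI : Fintype G := Fintype.ofFinite _
  haveI : Finite (FixedPoints.subfield G F) := inferInstance
  haveI : Module.Finite (FixedPoints.subfield G F) F := Module.Finite.of_finite
  have h1 := FixedPoints.finrank_eq_card G F
  have h2 := Module.natCard_eq_pow_finrank (K := FixedPoints.subfield G F) (V := F)
  rw [h1, ← Nat.card_eq_fintype_card] at h2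
  rw [h2]
  congr 1
  refine Nat.card_congr (Equiv.subtypeEquivRight fun k => ?_)
  constructor
  · intro h g hg
    exact h ⟨g, hg⟩
  · intro h g
    exact h g g.2

section

variable {H : Type u} [Group H] (V : Type v) [AddCommGroup V] [DistribMulAction H V] (x : H)

/-- The ring generated by `x`. -/
abbrev Kx : Subring (AddMonoid.End V) := ringOf (V := V) (zpowers x)

variable {V x}

theorem tau_x_mem : (tau x : AddMonoid.End V) ∈ Kx V x := tau_mem_ringOf _ (mem_zpowers x)

theorem comm_kx {c : H} (hc : c * x = x * c) (k : AddMonoid.End V) (hk : k ∈ Kx V x) (v : V) :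
    c • k v = k (c • v) := by
  have h1 := comm_ringOf (V := V) (zpowers x) (c := c) (by
    rintro _ ⟨j, rfl⟩
    exact ((show Commute c x from hc).zpow_right j).eq) k hk
  exact DFunLike.congr_fun h1 v

theorem zpowers_comm : ∀ a ∈ zpowers x, ∀ b ∈ zpowers x, a * b = b * a := by
  rintro _ ⟨i, rfl⟩ _ ⟨j, rfl⟩
  exact ((Commute.refl x).zpow_zpow i j).eq

variable (hirr : ∀ W : AddSubgroup V, (∀ w ∈ W, x • w ∈ W) → W = ⊥ ∨ W = ⊤)

include hirr

/-- Nonzero elements of the ring are injective. -/
theorem kx_inj (k : AddMonoid.End V) (hk : k ∈ Kx V x) (hk0 : k ≠ 0) {v : V} (hv : k v = 0) :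
    v = 0 := by
  let W : AddSubgroup V :=
    { carrier := {w | k w = 0}
      zero_mem' := map_zero k
      add_mem' := fun {a b} ha hb => by
        change k (a + b) = 0
        rw [map_add, show k a = 0 from ha, show k b = 0 from hb, add_zero]
      neg_mem' := fun {a} ha => by
        change k (-a) = 0
        rw [map_neg, show k a = 0 from ha, neg_zero] }
  rcases hirr W (by
    intro w hw
    change k (x • w) = 0
    rw [← comm_kx rfl k hk, show k w = 0 from hw, smul_zero]) with h | h
  · have h1 : v ∈ W := hv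
    rwa [h, AddSubgroup.mem_bot] at h1
  · exfalso
    apply hk0
    ext w
    have h1 : w ∈ W := by rw [h]; exact AddSubgroup.mem_top _
    exact h1

/-- `V` is one-dimensional over the ring. -/
theorem kx_surj {v : V} (hv : v ≠ 0) (w : V) : ∃ k : AddMonoid.End V, k ∈ Kx V x ∧ k v = w := by
  let W : AddSubgroup V :=
    { carrier := {w | ∃ k : AddMonoid.End V, k ∈ Kx V x ∧ k v = w}
      zero_mem' := ⟨0, zero_mem _, rfl⟩
      add_mem' := by
        rintro _ _ ⟨k, hk, rfl⟩ ⟨l, hl, rfl⟩
        exact ⟨k + l, add_mem hk hl, rfl⟩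
      neg_mem' := by
        rintro _ ⟨k, hk, rfl⟩
        exact ⟨-k, neg_mem hk, rfl⟩ }
  rcases hirr W (by
    rintro _ ⟨k, hk, rfl⟩
    exact ⟨tau x * k, mul_mem tau_x_mem hk, rfl⟩) with h | h
  · exfalso
    apply hv
    have h1 : v ∈ W := ⟨1, one_mem _, rfl⟩
    rwa [h, AddSubgroup.mem_bot] at h1
  · have h1 : w ∈ W := by rw [h]; exact AddSubgroup.mem_top _
    exact h1

/-- Evaluation at a nonzero vector. -/
noncomputable def evalEquiv {v : V} (hv : v ≠ 0) : Kx V x ≃ V :=
  Equiv.ofBijective (fun k => (k : AddMonoid.End V) v) (by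
    constructor
    · intro k l hkl
      by_contra hne
      apply hv
      refine kx_inj hirr ((k : AddMonoid.End V) - l) (sub_mem k.2 l.2) ?_ ?_
      · intro h0
        exact hne (Subtype.ext (sub_eq_zero.1 h0))
      · change (k : AddMonoid.End V) v - (l : AddMonoid.End V) v = 0
        exact sub_eq_zero.2 hkl
    · intro w
      obtain ⟨k, hk, h⟩ := kx_surj hirr hv w
      exact ⟨⟨k, hk⟩, h⟩)

theorem evalEquiv_apply {v : V} (hv : v ≠ 0) (k : Kx V x) :
    evalEquiv hirr hv k = (k : AddMonoid.End V) v := rfl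

/-- An element commuting with `x` acts as an element of the ring. -/
theorem tau_mem_of_comm [Nontrivial V] {c : H} (hc : c * x = x * c) :
    (tau c : AddMonoid.End V) ∈ Kx V x := by
  obtain ⟨v, hv⟩ := exists_ne (0 : V)
  obtain ⟨k, hk, hkv⟩ := kx_surj hirr hv (c • v)
  have : (tau c : AddMonoid.End V) = k := by
    ext w
    obtain ⟨l, hl, rfl⟩ := kx_surj hirr hv w
    change c • l v = k (l v)
    rw [comm_kx hc l hl, ← hkv]
    have h1 := ringOf_comm (V := V) (zpowers x) zpowers_comm l hl k hk
    exact DFunLike.congr_fun h1 v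
  rw [this]
  exact hk

theorem kx_isField [Finite V] [Nontrivial V] : IsField (Kx V x) := by
  haveI : Finite (AddMonoid.End V) := finite_end
  haveI : Nontrivial (Kx V x) := by
    refine ⟨⟨0, 1, fun h => ?_⟩⟩
    obtain ⟨v, hv⟩ := exists_ne (0 : V)
    apply hv
    have h1 := congrArg (fun k : Kx V x => (k : AddMonoid.End V) v) h
    exact h1.symm
  haveI : NoZeroDivisors (Kx V x) := by
    refine ⟨fun {a b} hab => ?_⟩
    by_contra hcon
    push Not at hcon
    obtain ⟨v, hv⟩ : ∃ v, (b : AddMonoid.End V) v ≠ 0 := by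
      by_contra h
      push Not at h
      apply hcon.2
      apply Subtype.ext
      ext w
      exact h w
    apply hv
    refine kx_inj hirr (a : AddMonoid.End V) a.2 (fun h => hcon.1 (Subtype.ext h)) ?_
    have h1 := congrArg (fun k : Kx V x => (k : AddMonoid.End V) v) hab
    exact h1
  haveI : IsDomain (Kx V x) := NoZeroDivisors.to_isDomain _
  exact Finite.isDomain_to_isField _

end

section conj

variable {H : Type u} [Group H] {V : Type v} [AddCommGroup V] [DistribMulAction H V] {x : H}
  (hN : (zpowers x).Normal)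

/-- Conjugation on the ring generated by `x`. -/
def conjK : H →* RingAut (Kx V x) where
  toFun g :=
    { toFun := fun k => ⟨(tau g : AddMonoid.End V) * k.1 * tau g⁻¹, ringOf_conj _ hN g k.1 k.2⟩
      invFun := fun k => ⟨(tau g⁻¹ : AddMonoid.End V) * k.1 * tau g, by
        have := ringOf_conj _ hN g⁻¹ k.1 k.2
        rwa [inv_inv] at this⟩
      left_inv := fun k => by
        apply Subtype.ext
        change (tau g⁻¹ : AddMonoid.End V) * (tau g * k.1 * tau g⁻¹) * tau g = k.1
        simp only [mul_assoc, tau_inv_mul, mul_one]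
        rw [← mul_assoc, tau_inv_mul, one_mul]
      right_inv := fun k => by
        apply Subtype.ext
        change (tau g : AddMonoid.End V) * (tau g⁻¹ * k.1 * tau g) * tau g⁻¹ = k.1
        simp only [mul_assoc, tau_mul_inv, mul_one]
        rw [← mul_assoc, tau_mul_inv, one_mul]
      map_mul' := fun k l => by
        apply Subtype.ext
        change (tau g : AddMonoid.End V) * (k.1 * l.1) * tau g⁻¹ =
          (tau g * k.1 * tau g⁻¹) * (tau g * l.1 * tau g⁻¹)
        rw [mul_assoc (tau g * k.1) (tau g⁻¹) _,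
          ← mul_assoc (tau g⁻¹ : AddMonoid.End V) _ (tau g⁻¹),
          ← mul_assoc (tau g⁻¹ : AddMonoid.End V) (tau g) _, tau_inv_mul, one_mul]
        simp only [mul_assoc]
      map_add' := fun k l => by
        apply Subtype.ext
        change (tau g : AddMonoid.End V) * (k.1 + l.1) * tau g⁻¹ =
          (tau g * k.1 * tau g⁻¹) + (tau g * l.1 * tau g⁻¹)
        rw [mul_add, add_mul] }
  map_one' := by
    apply RingEquiv.ext
    intro k
    apply Subtype.ext
    change (tau (1 : H) : AddMonoid.End V) * k.1 * tau (1 : H)⁻¹ = k.1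
    rw [inv_one, tau_one, one_mul, mul_one]
  map_mul' g h := by
    apply RingEquiv.ext
    intro k
    apply Subtype.ext
    change (tau (g * h) : AddMonoid.End V) * k.1 * tau (g * h)⁻¹ =
      tau g * (tau h * k.1 * tau h⁻¹) * tau g⁻¹
    rw [mul_inv_rev, tau_mul, tau_mul]
    simp only [mul_assoc]

theorem conjK_apply (g : H) (k : Kx V x) (v : V) :
    (conjK hN g k : Kx V x).1 (g • v) = g • k.1 v := by
  change g • k.1 (g⁻¹ • g • v) = _
  rw [inv_smul_smul]

theorem conjK_eq_one_iff (hf : ∀ h : H, (∀ v : V, h • v = v) → h = 1) (g : H) :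
    conjK (V := V) hN g = 1 ↔ g * x = x * g := by
  constructor
  · intro h
    have h1 := congrArg (fun f : RingAut (Kx V x) => (f ⟨tau x, tau_x_mem⟩ : Kx V x).1) h
    change (tau g : AddMonoid.End V) * tau x * tau g⁻¹ = tau x at h1
    rw [← tau_mul, ← tau_mul] at h1
    have h2 : (x : H)⁻¹ * (g * x * g⁻¹) = 1 := by
      apply hf
      intro v
      have h3 := DFunLike.congr_fun h1 v
      change (g * x * g⁻¹) • v = x • v at h3
      rw [mul_smul, h3, inv_smul_smul]
    have h4 : g * x * g⁻¹ = x := (inv_mul_eq_one.1 h2).symm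
    exact mul_inv_eq_iff_eq_mul.1 h4
  · intro h
    apply RingEquiv.ext
    intro k
    apply Subtype.ext
    ext v
    change g • k.1 (g⁻¹ • v) = k.1 v
    rw [comm_kx h k.1 k.2, smul_inv_smul]

end conj

end Cfsg.Agent.H670.Palfy
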