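import Cfsg.Agent.H670.Palfy.Base

/-!
# Consequences of the structure `SLD` (helper670)
-/

set_option autoImplicit false
set_option linter.unusedSectionVars false
set_option linter.style.haveILetI false

namespace Cfsg.Agent.H670.Palfy

open Subgroup

universe u v w

/-- `(p ^ n - 1) / (p ^ m - 1)` divides no `p ^ i + 1`, `i < n`, for `n = m s ^ k`, if it is `1` modulo
`s ≠ p`. -/
theorem no_dvd_pow_add_one {p n m s k i : ℕ} (hp : p.Prime) (hs : s.Prime) (hsp : s ≠ p)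
    (hm : 0 < m) (hk : 0 < k) (hn : n = m * s ^ k) (hmod : (p ^ n - 1) / (p ^ m - 1) ≡ 1 [MOD s])
    (hi : i < n) (hd : (p ^ n - 1) / (p ^ m - 1) ∣ p ^ i + 1) : False := by
  have hmn : m ∣ n := ⟨_, hn⟩
  obtain ⟨N, hN⟩ : p ^ m - 1 ∣ p ^ n - 1 := by
    obtain ⟨j, rfl⟩ := hmn
    rw [pow_mul]
    exact Nat.sub_one_dvd_pow_sub_one _ _
  have hm1 : 1 < p ^ m := Nat.one_lt_pow hm.ne' hp.one_lt
  have hdiv : (p ^ n - 1) / (p ^ m - 1) = N := by
    rw [hN]; exact Nat.mul_div_cancel_left _ (by omega)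
  rw [hdiv] at hmod hd
  have hsk : 2 ≤ s ^ k := le_trans hs.two_le (Nat.le_self_pow hk.ne' s)
  have h2m : 2 * m ≤ n := by rw [hn, mul_comm]; exact Nat.mul_le_mul_left _ hsk
  have e : ∀ n, 1 ≤ p ^ n := fun n => Nat.one_le_pow _ _ hp.pos
  -- `N > p ^ (n - m)`
  have hNlt : p ^ (n - m) < N := by
    have h1 : p ^ (n - m) * (p ^ m - 1) < (p ^ m - 1) * N := by
      rw [← hN, Nat.mul_sub, mul_one, ← pow_add, Nat.sub_add_cancel (by omega)]
      have h2 : 1 < p ^ (n - m) := Nat.one_lt_pow (by omega) hp.one_lt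
      have h3 : p ^ (n - m) ≤ p ^ n := Nat.pow_le_pow_right hp.pos (by omega)
      omega
    rw [mul_comm (p ^ m - 1)] at h1
    exact Nat.lt_of_mul_lt_mul_right h1
  -- `N ∣ p ^ (n - i) + 1`
  have hd2 : N ∣ p ^ (n - i) + 1 := by
    have h1 : N ∣ p ^ n - 1 := ⟨p ^ m - 1, by rw [hN, mul_comm]⟩
    have h2 : N ∣ p ^ (n - i) * (p ^ i + 1) := Dvd.dvd.mul_left hd _
    have h3 : p ^ (n - i) * (p ^ i + 1) = (p ^ (n - i) + 1) + (p ^ n - 1) := by
      rw [mul_add, ← pow_add, Nat.sub_add_cancel hi.le, mul_one]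
      have := e n
      omega
    rw [h3] at h2
    exact (Nat.dvd_add_left h1).1 h2
  have h1 := Nat.le_of_dvd (by omega) hd2
  have h2 : n - m ≤ n - i := by
    by_contra hcon
    have h3 : p ^ (n - i + 1) ≤ p ^ (n - m) := Nat.pow_le_pow_right hp.pos (by omega)
    have h4 : p ^ (n - i + 1) = p ^ (n - i) * p := pow_succ _ _
    have h5 := hp.two_le
    have h6 : p ^ (n - i) * 2 ≤ p ^ (n - i) * p := Nat.mul_le_mul_left _ h5
    have h7 := e (n - i)
    omega
  -- `i ≥ n - m`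
  have h3 := Nat.le_of_dvd (by omega) hd
  have h4 : n - m ≤ i := by
    by_contra hcon
    have h3' : p ^ (i + 1) ≤ p ^ (n - m) := Nat.pow_le_pow_right hp.pos (by omega)
    have h4 : p ^ (i + 1) = p ^ i * p := pow_succ _ _
    have h5 := hp.two_le
    have h6 : p ^ i * 2 ≤ p ^ i * p := Nat.mul_le_mul_left _ h5
    have h7 := e i
    omega
  have h5 : n = 2 * m := by omega
  have h6 : s ^ k = 2 := by
    rw [h5, mul_comm] at hn
    exact (Nat.eq_of_mul_eq_mul_left hm hn).symm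
  have hs2 : s = 2 := by
    have h7 : s ≤ 2 := by rw [← h6]; exact Nat.le_self_pow hk.ne' s
    have := hs.two_le
    omega
  -- `N = p ^ m + 1`
  have h7 : N = p ^ m + 1 := by
    have h8 : (p ^ m - 1) * N = (p ^ m - 1) * (p ^ m + 1) := by
      rw [← hN, h5, two_mul, pow_add, mul_comm (p ^ m - 1), ← Nat.sq_sub_sq, one_pow, sq]
    exact Nat.eq_of_mul_eq_mul_left (by omega) h8
  rw [h7, hs2] at hmod
  have h8 : p ^ m % 2 = 0 := by
    have : (p ^ m + 1) % 2 = 1 % 2 := hmod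
    omega
  have h9 : 2 ∣ p := Nat.prime_two.dvd_of_dvd_pow (Nat.dvd_of_mod_eq_zero h8)
  exact hsp (by rw [hs2]; exact (Nat.prime_dvd_prime_iff_eq Nat.prime_two hp).1 h9)

section

variable {H : Type u} {V : Type v} {V' : Type w} [Group H] [AddCommGroup V] [DistribMulAction H V]
  [AddCommGroup V'] [DistribMulAction H V'] [Finite H] [Finite V]

/-- If `q` does not divide `|H : C|`, the Sylow `q`-subgroups act trivially on each module with the unique
fixing property on which the kernel of `V` is trivial. -/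
theorem SLD.triv {C : Subgroup H} {p n q : ℕ} [hq : Fact q.Prime] (h : SLD H V C p n)
    (hC : ¬ q ∣ C.index) (hK : Ker H V ≤ Ker H V') (hu : UF q H (⊥ : AddSubgroup V'))
    (Q : Sylow q H) : Triv V' (Q : Subgroup H) := by
  have hCn := h.nrm
  have hle : ∀ Q : Sylow q H, (Q : Subgroup H) ≤ C := by
    intro Q
    obtain ⟨Q1, hQ1⟩ := exists_sylow_le (z := q) C hC
    obtain ⟨g, rfl⟩ := MulAction.exists_smul_eq H Q1 Q
    intro x hx
    have h1 := hCn.conj_mem _ (hQ1 (mem_smul_sylow.1 hx)) g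
    have h2 : g * (g⁻¹ * x * g) * g⁻¹ = x := by group
    rwa [h2] at h1
  intro x hx v
  by_cases hv : v = 0
  · rw [hv, smul_zero]
  obtain ⟨Q', hQ', -⟩ := hu v hv
  obtain ⟨c, hc⟩ := MulAction.exists_smul_eq C (Q.subtype (hle Q)) (Q'.subtype (hle Q'))
  have h1 : (c : H) * x * (c : H)⁻¹ ∈ (Q' : Subgroup H) := by
    have h2 : (⟨(c : H) * x * (c : H)⁻¹, C.mul_mem (C.mul_mem c.2 (hle Q hx)) (C.inv_mem c.2)⟩ : C) ∈
        ((c • Q.subtype (hle Q) : Sylow q C) : Subgroup C) := by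
      rw [mem_smul_sylow, Sylow.coe_subtype, Subgroup.mem_subgroupOf]
      have h3 : (((c⁻¹ * ⟨(c : H) * x * (c : H)⁻¹,
        C.mul_mem (C.mul_mem c.2 (hle Q hx)) (C.inv_mem c.2)⟩ * c : C)) : H) = x := by
        push_cast
        group
      rw [h3]
      exact hx
    rw [hc, Sylow.coe_subtype, Subgroup.mem_subgroupOf] at h2
    exact h2
  have h2 := hQ' _ h1
  have h3 : (c : H) * x * (c : H)⁻¹ * x⁻¹ ∈ Ker H V' := hK (h.comm _ c.2 x (hle Q hx))
  have h4 : x = ((c : H) * x * (c : H)⁻¹ * x⁻¹)⁻¹ * ((c : H) * x * (c : H)⁻¹) := by group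
  rw [h4, mul_smul, h2]
  exact (Ker H V').inv_mem h3 v

/-- The order of `C` modulo the kernel is the order of a generator. -/
theorem SLD.relIndex_dvd {C : Subgroup H} {p n : ℕ} (h : SLD H V C p n) {g : H} (hg : g ∈ C)
    (hgen : ∀ c ∈ C, ∃ k : ℕ, c * (g ^ k)⁻¹ ∈ Ker H V) {j : ℕ} (hj : 0 < j)
    (hgj : g ^ j ∈ Ker H V) : (Ker H V).relIndex C ∣ j := by
  classical
  -- `C / K` is generated by the class of `g`
  let K := (Ker H V).subgroupOf C
  haveI : K.Normal := (inferInstance : (Ker H V).Normal).subgroupOf C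
  have h1 : ∀ x : C ⧸ K, x ∈ Subgroup.zpowers ((⟨g, hg⟩ : C) : C ⧸ K) := by
    intro x
    obtain ⟨c, rfl⟩ := QuotientGroup.mk_surjective x
    obtain ⟨k, hk⟩ := hgen c c.2
    refine ⟨k, ?_⟩
    change ((⟨g, hg⟩ : C) : C ⧸ K) ^ (k : ℤ) = (c : C ⧸ K)
    rw [zpow_natCast, ← QuotientGroup.mk_pow, eq_comm, ← mul_inv_eq_one, ← QuotientGroup.mk_inv,
      ← QuotientGroup.mk_mul, QuotientGroup.eq_one_iff, Subgroup.mem_subgroupOf]
    exact hk
  have h2 : Nat.card (C ⧸ K) = orderOf ((⟨g, hg⟩ : C) : C ⧸ K) :=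
    (orderOf_eq_card_of_forall_mem_zpowers h1).symm
  have h3 : (Ker H V).relIndex C = Nat.card (C ⧸ K) := rfl
  rw [h3, h2]
  apply orderOf_dvd_of_pow_eq_one
  rw [← QuotientGroup.mk_pow, QuotientGroup.eq_one_iff, Subgroup.mem_subgroupOf]
  exact hgj

/-- No generator of `C` has order dividing `p ^ i + 1`, `i < n`. -/
theorem SLD.no_pow {C : Subgroup H} {p n s : ℕ} [hs : Fact s.Prime] (hp : p.Prime)
    (hn : 0 < n) (h : SLD H V C p n) (hsp : s ≠ p) (hu : UF s H (⊥ : AddSubgroup V)) (S : Sylow s H)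
    (hS : ¬ Triv V (S : Subgroup H)) {g : H} (hg : g ∈ C)
    (hgen : ∀ c ∈ C, ∃ k : ℕ, c * (g ^ k)⁻¹ ∈ Ker H V) {i : ℕ} (hi : i < n)
    (hgi : g ^ (p ^ i + 1) ∈ Ker H V) : False := by
  obtain ⟨-, -, k, m, hk, hnm, -, hmod, hdvd⟩ := h.uf s hs.out hu S hS
  have hm : 0 < m := by
    rcases Nat.eq_zero_or_pos m with h0 | h0
    · rw [h0, Nat.zero_mul] at hnm
      omega
    · exact h0
  exact no_dvd_pow_add_one hp hs.out hsp hm hk hnm hmod hi
    (hdvd.trans (h.relIndex_dvd hg hgen (Nat.succ_pos _) hgi))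

end

end Cfsg.Agent.H670.Palfy
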