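import Cfsg.Agent.H670.Palfy.Field
import Cfsg.Agent.H670.Palfy.Sld

/-!
# The structure `SLD` from a normal subgroup generated by an irreducible element (helper670)
-/

set_option autoImplicit false
set_option linter.unusedSectionVars false
set_option linter.style.haveILetI false

namespace Cfsg.Agent.H670.Palfy

open Subgroup Cfsg.Agent.PermutationGroups.HalfTransField

universe u v

section

variable {H : Type u} [Group H] {V : Type v} [AddCommGroup V] [DistribMulAction H V]

/-- Each Sylow subgroup fixes a nonzero vector. -/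
theorem UF.exists_fixed [Finite H] [Nontrivial V] {z : ℕ} [Fact z.Prime]
    (h : UF z H (⊥ : AddSubgroup V)) (Q : Sylow z H) :
    ∃ v : V, v ≠ 0 ∧ v ∈ fixed V (Q : Subgroup H) := by
  obtain ⟨v, hv⟩ := exists_ne (0 : V)
  obtain ⟨Q0, hQ0, -⟩ := h v hv
  obtain ⟨g, rfl⟩ := MulAction.exists_smul_eq H Q0 Q
  exact ⟨g • v, by rwa [Ne, smul_eq_zero_iff_eq], fix_conj hQ0 g⟩

end

section

variable {H : Type u} [Group H] [Finite H] {V : Type v} [AddCommGroup V] [DistribMulAction H V]
  [Finite V] [Nontrivial V] {x : H} {p n t : ℕ}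

theorem mem_kerK (hf : ∀ h : H, (∀ v : V, h • v = v) → h = 1) (hN : (zpowers x).Normal) {g : H} :
    g ∈ (conjK (V := V) hN).ker ↔ g * x = x * g := by
  rw [MonoidHom.mem_ker, conjK_eq_one_iff hN hf]

theorem free_of_comm (hirr : ∀ W : AddSubgroup V, (∀ w ∈ W, x • w ∈ W) → W = ⊥ ∨ W = ⊤)
    {c : H} (hc : c * x = x * c) {v : V} (hv : v ≠ 0) (hcv : c • v = v) : c ∈ Ker H V := by
  by_contra hne
  apply hv
  have h1 := tau_mem_of_comm hirr hc
  refine kx_inj hirr ((tau c : AddMonoid.End V) - 1) (sub_mem h1 (one_mem _)) ?_ ?_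
  · intro h0
    apply hne
    intro w
    have h2 := DFunLike.congr_fun h0 w
    exact sub_eq_zero.1 h2
  · exact sub_eq_zero.2 hcv

theorem ker_eq_bot (hf : ∀ h : H, (∀ v : V, h • v = v) → h = 1) : Ker H V = ⊥ :=
  (Subgroup.eq_bot_iff_forall _).2 fun h hh => hf h hh

theorem card_kx (hirr : ∀ W : AddSubgroup V, (∀ w ∈ W, x • w ∈ W) → W = ⊥ ∨ W = ⊤) :
    Nat.card (Kx V x) = Nat.card V := by
  obtain ⟨v, hv⟩ := exists_ne (0 : V)
  exact Nat.card_congr (evalEquiv hirr hv)

theorem pow_of_pow_eq {p n a d : ℕ} (hp : p.Prime) (h : p ^ n = a ^ d) (hd : 0 < d) :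
    ∃ m, a = p ^ m ∧ n = m * d := by
  have h1 : a ∣ p ^ n := h ▸ dvd_pow_self a hd.ne'
  obtain ⟨m, -, hm⟩ := (Nat.dvd_prime_pow hp).1 h1
  refine ⟨m, hm, ?_⟩
  rw [hm, ← pow_mul] at h
  exact Nat.pow_right_injective hp.two_le h

/-- Fixed points of a group of automorphisms of the field. -/
theorem kx_card_fixed (hirr : ∀ W : AddSubgroup V, (∀ w ∈ W, x • w ∈ W) → W = ⊥ ∨ W = ⊤)
    (hp : p.Prime) (hV : Nat.card V = p ^ n) (G : Subgroup (RingAut (Kx V x))) :
    ∃ m, Nat.card {k : Kx V x // ∀ g ∈ G, g k = k} = p ^ m ∧ n = m * Nat.card G := by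
  haveI : Finite (AddMonoid.End V) := finite_end
  letI fld : Field (Kx V x) := (kx_isField hirr).toField
  have h1 := card_fixed_pow (Kx V x) G
  rw [card_kx hirr, hV] at h1
  haveI : Finite (RingAut (Kx V x)) := Finite.of_injective (fun f : RingAut (Kx V x) => (f : Kx V x → Kx V x))
    DFunLike.coe_injective
  exact pow_of_pow_eq hp h1 Nat.card_pos

/-- The index of the centralizer divides `n`. -/
theorem index_dvd (hirr : ∀ W : AddSubgroup V, (∀ w ∈ W, x • w ∈ W) → W = ⊥ ∨ W = ⊤)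
    (hN : (zpowers x).Normal) (hp : p.Prime) (hV : Nat.card V = p ^ n) :
    (conjK (V := V) hN).ker.index ∣ n := by
  obtain ⟨m, -, hm⟩ := kx_card_fixed hirr hp hV (conjK (V := V) hN).range
  rw [Subgroup.index_ker]
  exact ⟨m, by rw [hm, mul_comm]⟩

theorem isCyclic_kerK (hf : ∀ h : H, (∀ v : V, h • v = v) → h = 1)
    (hirr : ∀ W : AddSubgroup V, (∀ w ∈ W, x • w ∈ W) → W = ⊥ ∨ W = ⊤)
    (hN : (zpowers x).Normal) : IsCyclic (conjK (V := V) hN).ker := by
  haveI : Finite (AddMonoid.End V) := finite_end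
  letI fld : Field (Kx V x) := (kx_isField hirr).toField
  let f : (conjK (V := V) hN).ker →* Kx V x :=
    { toFun := fun c => ⟨tau (c : H), tau_mem_of_comm hirr ((mem_kerK hf hN).1 c.2)⟩
      map_one' := Subtype.ext tau_one
      map_mul' := fun a b => Subtype.ext (tau_mul (a : H) (b : H)) }
  refine isCyclic_of_injective_ringHom f ?_
  intro a b hab
  have h1 : (tau (a : H) : AddMonoid.End V) = tau (b : H) := congrArg Subtype.val hab
  have h2 : (a : H)⁻¹ * b = 1 := by
    apply hf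
    intro v
    have h3 := DFunLike.congr_fun h1 v
    change (a : H) • v = (b : H) • v at h3
    rw [mul_smul, ← h3, inv_smul_smul]
  exact Subtype.ext (inv_mul_eq_one.1 h2)

/-- The degree `|H : C|`. -/
theorem index_mem (hf : ∀ h : H, (∀ v : V, h • v = v) → h = 1)
    (hirr : ∀ W : AddSubgroup V, (∀ w ∈ W, x • w ∈ W) → W = ⊥ ∨ W = ⊤)
    (hN : (zpowers x).Normal) (ht : t.Prime) (hxt : x ^ t = 1) (hx1 : x ≠ 1) :
    (conjK (V := V) hN).ker.index ∈ Cfsg.charDegrees H := by
  classical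
  haveI := isCyclic_kerK hf hirr hN
  have hcomm : ∀ a b : (conjK (V := V) hN).ker, a * b = b * a :=
    fun a b => (IsCyclic.commGroup (α := (conjK (V := V) hN).ker)).mul_comm a b
  have hxC : x ∈ (conjK (V := V) hN).ker := (mem_kerK hf hN).2 rfl
  obtain ⟨mu, hmu⟩ : ∃ mu : (conjK (V := V) hN).ker →* ℂˣ, mu ⟨x, hxC⟩ ≠ 1 := by
    letI : CommGroup (conjK (V := V) hN).ker :=
      { (inferInstance : Group (conjK (V := V) hN).ker) with mul_comm := hcomm }
    exact CommGroup.exists_apply_ne_one_of_hasEnoughRootsOfUnity _ ℂ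
      (fun h => hx1 (congrArg Subtype.val h))
  have hirrmu := Characters.Linear.isIrrCharacter_hom mu
  have h1 := H681.DegBasic.induced_degree (conjK (V := V) hN).ker hirrmu (d := 1) (by simp) ?_
  · rwa [mul_one] at h1
  · intro g hg
    rw [mem_kerK hf hN]
    obtain ⟨i, hi⟩ : ∃ i : ℕ, x ^ i = g * x * g⁻¹ := by
      have h2 := hN.conj_mem x (mem_zpowers x) g
      rw [← mem_powers_iff_mem_zpowers] at h2
      exact h2
    have h3 := hg ⟨x, hxC⟩
    have h4 : (⟨g * x * g⁻¹, (conjK (V := V) hN).normal_ker.conj_mem x hxC g⟩ :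
        (conjK (V := V) hN).ker) = ⟨x, hxC⟩ ^ i := Subtype.ext hi.symm
    have h5 : mu (⟨x, hxC⟩ ^ i) = mu ⟨x, hxC⟩ := by
      rw [← h4]
      exact Units.ext h3
    rw [map_pow] at h5
    have hord : orderOf (mu ⟨x, hxC⟩) = t := by
      haveI : Fact t.Prime := ⟨ht⟩
      refine orderOf_eq_prime ?_ hmu
      rw [← map_pow]
      have h6 : (⟨x, hxC⟩ : (conjK (V := V) hN).ker) ^ t = 1 := Subtype.ext hxt
      rw [h6, map_one]
    have hordx : orderOf x = t := by
      haveI : Fact t.Prime := ⟨ht⟩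
      exact orderOf_eq_prime hxt hx1
    have h6 : i ≡ 1 [MOD t] := by
      rw [← hord]
      exact pow_eq_pow_iff_modEq.1 (by rw [h5, pow_one])
    have h7 : x ^ i = x := by
      have := pow_eq_pow_iff_modEq.2 (show i ≡ 1 [MOD orderOf x] by rw [hordx]; exact h6)
      rwa [pow_one] at this
    rw [h7] at hi
    exact (mul_inv_eq_iff_eq_mul.1 hi.symm)

/-- The order of a subgroup acting freely divides the indices of the stabilizers. -/
theorem relIndex_dvd_stab (C : Subgroup H) (hC : C.Normal)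
    (hfree : ∀ c ∈ C, ∀ v : V, v ≠ 0 → c • v = v → c ∈ Ker H V) (v : V) (hv : v ≠ 0) :
    (Ker H V).relIndex C ∣ (MulAction.stabilizer H v).index := by
  set T := MulAction.stabilizer H v with hT
  have h1 : T ⊓ C = Ker H V ⊓ C := by
    ext c
    rw [Subgroup.mem_inf, Subgroup.mem_inf]
    exact and_congr_left fun hc => ⟨fun h => hfree c hc v hv h, fun h => h v⟩
  rw [← Subgroup.inf_relIndex_right, ← h1, Subgroup.inf_relIndex_right]
  have h2 : T.relIndex (T ⊔ C) = T.relIndex C := by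
    have e1 := Subgroup.relIndex_mul_relIndex (⊥ : Subgroup H) T (T ⊔ C) bot_le le_sup_left
    have e2 := Subgroup.relIndex_mul_relIndex (⊥ : Subgroup H) C (T ⊔ C) bot_le le_sup_right
    have e3 := Subgroup.relIndex_mul_relIndex (⊥ : Subgroup H) (T ⊓ C) T bot_le inf_le_left
    have e4 := Subgroup.relIndex_mul_relIndex (⊥ : Subgroup H) (T ⊓ C) C bot_le inf_le_right
    rw [Subgroup.relIndex_sup_right] at e2
    rw [Subgroup.inf_relIndex_left] at e3
    rw [Subgroup.inf_relIndex_right] at e4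
    simp only [Subgroup.relIndex_bot_left] at e1 e2 e3 e4
    have h5 : 0 < Nat.card (T ⊓ C : Subgroup H) := Nat.card_pos
    have h6 : 0 < C.relIndex T := Nat.pos_of_ne_zero (by
      rw [← Nat.pos_iff_ne_zero]
      have : 0 < Nat.card T := Nat.card_pos
      rw [← e3] at this
      exact Nat.pos_of_mul_pos_left this)
    have h7 : (Nat.card (T ⊓ C : Subgroup H) * C.relIndex T) * T.relIndex (T ⊔ C) =
        (Nat.card (T ⊓ C : Subgroup H) * C.relIndex T) * T.relIndex C := by
      rw [e3, e1, ← e2, ← e4, ← e3]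
      ring
    exact Nat.eq_of_mul_eq_mul_left (Nat.mul_pos h5 h6) h7
  rw [← h2]
  exact Subgroup.relIndex_dvd_index_of_le le_sup_left

/-- The number of Sylow subgroups, if `H / C` is abelian. -/
theorem card_sylow_dvd (C : Subgroup H) [hC : C.Normal] (hq : ∀ a b : H, a * b * a⁻¹ * b⁻¹ ∈ C)
    {z : ℕ} [hz : Fact z.Prime] (hzC : ¬ z ∣ Nat.card C) :
    Nat.card (Sylow z H) ∣ Nat.card C := by
  classical
  obtain ⟨Z⟩ : Nonempty (Sylow z H) := inferInstance
  set J := C ⊔ (Z : Subgroup H) with hJ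
  have hJn : J.Normal := by
    constructor
    intro a ha g
    have h1 : g * a * g⁻¹ = (g * a * g⁻¹ * a⁻¹) * a := by group
    rw [h1]
    exact J.mul_mem ((le_sup_left : C ≤ J) (hq g a)) ha
  have hall : ∀ Q : Sylow z H, (Q : Subgroup H) ≤ J := by
    intro Q
    obtain ⟨g, rfl⟩ := MulAction.exists_smul_eq H Z Q
    intro a ha
    have h1 := hJn.conj_mem _ ((le_sup_right : (Z : Subgroup H) ≤ J) (mem_smul_sylow.1 ha)) g
    have h2 : g * (g⁻¹ * a * g) * g⁻¹ = a := by group
    rwa [h2] at h1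
  -- the Sylow subgroups of `J`
  have h1 : Nat.card (Sylow z H) ≤ Nat.card (Sylow z J) := by
    refine Nat.card_le_card_of_injective (fun Q : Sylow z H => Q.subtype (hall Q)) ?_
    intro Q Q' h
    exact Sylow.subtype_injective h
  have h2 : Nat.card (Sylow z J) ≤ Nat.card (Sylow z H) := by
    refine Nat.card_le_card_of_surjective (fun Q : Sylow z H => Q.subtype (hall Q)) ?_
    intro Q0
    obtain ⟨g, hg⟩ := MulAction.exists_smul_eq J (Z.subtype (hall Z)) Q0
    refine ⟨(g : H) • Z, ?_⟩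
    rw [← hg]
    apply Sylow.ext
    ext a
    rw [Sylow.coe_subtype, Subgroup.mem_subgroupOf, mem_smul_sylow, mem_smul_sylow,
      Sylow.coe_subtype, Subgroup.mem_subgroupOf]
    rfl
  have h3 : Nat.card (Sylow z H) = Nat.card (Sylow z J) := le_antisymm h1 h2
  rw [h3]
  have h4 := Sylow.card_dvd_index (Z.subtype (hall Z))
  refine h4.trans (dvd_of_eq ?_)
  -- the index of `Z` in `C Z`
  rw [Sylow.coe_subtype]
  change (Z : Subgroup H).relIndex J = Nat.card C
  have e1 := Subgroup.relIndex_mul_relIndex (⊥ : Subgroup H) (Z : Subgroup H) J bot_le le_sup_right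
  have e2 := Subgroup.relIndex_mul_relIndex (⊥ : Subgroup H) C J bot_le le_sup_left
  have e3 : C.relIndex J = Nat.card (Z : Subgroup H) := by
    rw [hJ, Subgroup.relIndex_sup_left, ← Subgroup.inf_relIndex_right]
    have h5 : C ⊓ (Z : Subgroup H) = ⊥ := by
      apply Disjoint.eq_bot
      apply Subgroup.disjoint_of_coprime_natCard
      obtain ⟨k, hk⟩ := (IsPGroup.iff_card (p := z)).1 Z.isPGroup'
      rw [hk]
      exact (Nat.Coprime.pow_left k ((hz.out.coprime_iff_not_dvd).2 hzC)).symm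
    rw [h5, Subgroup.relIndex_bot_left]
  simp only [Subgroup.relIndex_bot_left] at e1 e2
  rw [e3] at e2
  have h6 : 0 < Nat.card (Z : Subgroup H) := Nat.card_pos
  apply Nat.eq_of_mul_eq_mul_left h6
  rw [e1, ← e2, mul_comm]

/-- The data of a prime with the unique fixing property. -/
theorem uf_data (hf : ∀ h : H, (∀ v : V, h • v = v) → h = 1)
    (hirr : ∀ W : AddSubgroup V, (∀ w ∈ W, x • w ∈ W) → W = ⊥ ∨ W = ⊤)
    (hN : (zpowers x).Normal) (hp : p.Prime) (hV : Nat.card V = p ^ n)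
    (hquot : ∀ a b : H, a * b * a⁻¹ * b⁻¹ ∈ (conjK (V := V) hN).ker)
    {z : ℕ} (hz : z.Prime) (hu : UF z H (⊥ : AddSubgroup V)) (Z : Sylow z H)
    (hZ : ¬ Triv V (Z : Subgroup H)) :
    z ∣ (conjK (V := V) hN).ker.index ∧ ¬ z ∣ Nat.card (conjK (V := V) hN).ker ∧
    ∃ k m : ℕ, 0 < k ∧ n = m * z ^ k ∧ Nat.card (fixed V (Z : Subgroup H)) = p ^ m ∧
      (p ^ n - 1) / (p ^ m - 1) ≡ 1 [MOD z] ∧
      (p ^ n - 1) / (p ^ m - 1) ∣ Nat.card (conjK (V := V) hN).ker := by
  classical
  haveI : Fact z.Prime := ⟨hz⟩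
  have hCn : (conjK (V := V) hN).ker.Normal := inferInstance
  -- `z` does not divide `|C|`
  have hzC : ¬ z ∣ Nat.card (conjK (V := V) hN).ker := by
    intro hd
    obtain ⟨c, hc⟩ := exists_prime_orderOf_dvd_card' z hd
    have hc1 : (c : H) ≠ 1 := by
      intro h
      have h1 : c = 1 := Subtype.ext h
      rw [h1, orderOf_one] at hc
      exact hz.one_lt.ne hc
    have hcp : IsPGroup z (zpowers (c : H)) := by
      refine IsPGroup.of_card (n := 1) ?_
      rw [Nat.card_zpowers, Subgroup.orderOf_coe, hc, pow_one]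
    obtain ⟨Q, hQ⟩ := hcp.exists_le_sylow
    obtain ⟨v, hv, hvQ⟩ := hu.exists_fixed Q
    exact hc1 (hf _ (free_of_comm hirr ((mem_kerK hf hN).1 c.2) hv (hvQ _ (hQ (mem_zpowers _)))))
  obtain ⟨k, hk⟩ := (IsPGroup.iff_card (p := z)).1 Z.isPGroup'
  have hk0 : 0 < k := by
    rcases Nat.eq_zero_or_pos k with h0 | h0
    · exfalso
      rw [h0, pow_zero, Subgroup.card_eq_one] at hk
      apply hZ
      intro a ha v
      rw [hk, Subgroup.mem_bot] at ha
      rw [ha, one_smul]
    · exact h0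
  have hzH : z ∣ Nat.card H := by
    refine Dvd.dvd.trans ?_ (Subgroup.card_subgroup_dvd_card (Z : Subgroup H))
    rw [hk]
    exact dvd_pow_self z hk0.ne'
  have hzi : z ∣ (conjK (V := V) hN).ker.index := by
    rw [← Subgroup.card_mul_index (conjK (V := V) hN).ker] at hzH
    exact (hz.dvd_mul.1 hzH).resolve_left hzC
  refine ⟨hzi, hzC, ?_⟩
  -- the image of `Z` in the automorphisms of the field
  set G := (Z : Subgroup H).map (conjK (V := V) hN) with hG
  have hcardG : Nat.card G = z ^ k := by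
    rw [← hk]
    have h1 : (Z : Subgroup H) ⊓ (conjK (V := V) hN).ker = ⊥ := by
      apply Disjoint.eq_bot
      apply Subgroup.disjoint_of_coprime_natCard
      rw [hk]
      exact Nat.Coprime.pow_left k ((hz.coprime_iff_not_dvd).2 hzC)
    refine (Nat.card_congr (Equiv.ofBijective
      (fun a : (Z : Subgroup H) => (⟨conjK (V := V) hN a, a, a.2, rfl⟩ : G)) ⟨?_, ?_⟩)).symm
    · intro a b hab
      have h2 : conjK (V := V) hN a = conjK (V := V) hN b := congrArg Subtype.val hab
      have h3 : (a : H)⁻¹ * b ∈ (Z : Subgroup H) ⊓ (conjK (V := V) hN).ker := by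
        refine Subgroup.mem_inf.2 ⟨(Z : Subgroup H).mul_mem ((Z : Subgroup H).inv_mem a.2) b.2, ?_⟩
        rw [MonoidHom.mem_ker, map_mul, map_inv, h2, inv_mul_cancel]
      rw [h1, Subgroup.mem_bot] at h3
      exact Subtype.ext (inv_mul_eq_one.1 h3)
    · rintro ⟨_, a, ha, rfl⟩
      exact ⟨⟨a, ha⟩, rfl⟩
  obtain ⟨m, hm, hnm⟩ := kx_card_fixed hirr hp hV G
  rw [hcardG] at hnm
  -- comparison with the fixed vectors
  obtain ⟨v0, hv0, hv0Z⟩ := hu.exists_fixed Z
  have hfix : Nat.card (fixed V (Z : Subgroup H)) = p ^ m := by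
    rw [← hm]
    refine (Nat.card_congr (Equiv.subtypeEquiv (evalEquiv hirr hv0) ?_)).symm
    intro kk
    rw [evalEquiv_apply]
    constructor
    · intro h a ha
      have h1 := conjK_apply (V := V) hN a kk v0
      rw [h _ ⟨a, ha, rfl⟩, hv0Z a ha] at h1
      exact h1.symm
    · rintro h _ ⟨a, ha, rfl⟩
      have h1 := conjK_apply (V := V) hN a kk v0
      rw [hv0Z a ha, h a ha] at h1
      exact (evalEquiv hirr hv0).injective h1
  -- the number of Sylow subgroups
  have hn1 : Nat.card (Sylow z H) ≠ 1 := hu.card_ne_one hZ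
  have hn0 : 0 < n := by
    rcases Nat.eq_zero_or_pos n with h0 | h0
    · exfalso
      rw [h0, pow_zero] at hV
      have := Finite.one_lt_card (α := V)
      omega
    · exact h0
  obtain ⟨m', hm'0, -, hm', hcount⟩ := hu.params hp hV hn0 Z hn1
  have hmm : m' = m := by
    rw [hfix] at hm'
    exact (Nat.pow_right_injective hp.two_le hm').symm
  rw [hmm] at hcount hm'0
  have hpm : 0 < p ^ m - 1 := by
    have := Nat.one_lt_pow hm'0.ne' hp.one_lt
    omega
  have hdiv : (p ^ n - 1) / (p ^ m - 1) = Nat.card (Sylow z H) := by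
    rw [hcount]
    exact Nat.mul_div_cancel _ hpm
  refine ⟨k, m, hk0, hnm, hfix, ?_, ?_⟩
  · rw [hdiv]
    exact card_sylow_modEq_one z H
  · rw [hdiv]
    exact card_sylow_dvd _ hquot hzC

/-- The structure theorem, faithful case, from an irreducible element generating a normal subgroup. -/
theorem sld_of_normal (hf : ∀ h : H, (∀ v : V, h • v = v) → h = 1)
    (hirr : ∀ W : AddSubgroup V, (∀ w ∈ W, x • w ∈ W) → W = ⊥ ∨ W = ⊤)
    (hN : (zpowers x).Normal) (hp : p.Prime) (hV : Nat.card V = p ^ n) (ht : t.Prime)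
    (hxt : x ^ t = 1) (hx1 : x ≠ 1) : SLD H V (conjK (V := V) hN).ker p n := by
  have hK := ker_eq_bot (V := V) hf
  have hcyc := isCyclic_kerK hf hirr hN
  have hrel : (Ker H V).relIndex (conjK (V := V) hN).ker = Nat.card (conjK (V := V) hN).ker := by
    rw [hK, Subgroup.relIndex_bot_left]
  have hquot : ∀ a b : H, a * b * a⁻¹ * b⁻¹ ∈ (conjK (V := V) hN).ker := by
    intro a b
    rw [mem_kerK hf hN]
    have hex : ∀ g : H, ∃ i : ℕ, g * x * g⁻¹ = x ^ i := by
      intro g
      have h2 := hN.conj_mem x (mem_zpowers x) g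
      rw [← mem_powers_iff_mem_zpowers] at h2
      obtain ⟨i, hi⟩ := h2
      exact ⟨i, hi.symm⟩
    obtain ⟨i, hi⟩ := hex a
    obtain ⟨j, hj⟩ := hex b
    have h1 : (a * b) * x * (a * b)⁻¹ = x ^ (i * j) := by
      have : (a * b) * x * (a * b)⁻¹ = a * (b * x * b⁻¹) * a⁻¹ := by group
      rw [this, hj, ← conj_pow, hi, ← pow_mul]
    have h2 : (b * a) * x * (b * a)⁻¹ = x ^ (i * j) := by
      have : (b * a) * x * (b * a)⁻¹ = b * (a * x * a⁻¹) * b⁻¹ := by group
      rw [this, hi, ← conj_pow, hj, ← pow_mul, mul_comm]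
    have h3 : (a * b) * x * (a * b)⁻¹ = (b * a) * x * (b * a)⁻¹ := h1.trans h2.symm
    obtain ⟨l, hl⟩ := hex (b * a)⁻¹
    rw [inv_inv] at hl
    have h4 : (a * b) * ((b * a)⁻¹ * x * (b * a)) * (a * b)⁻¹ = x := by
      rw [hl, ← conj_pow, h3, conj_pow, ← hl]
      group
    have h5 : a * b * a⁻¹ * b⁻¹ * x * (a * b * a⁻¹ * b⁻¹)⁻¹ = x := by
      conv_rhs => rw [← h4]
      group
    exact mul_inv_eq_iff_eq_mul.1 h5
  have hcommC : ∀ a ∈ (conjK (V := V) hN).ker, ∀ b ∈ (conjK (V := V) hN).ker, a * b = b * a := by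
    intro a ha b hb
    have h1 := (IsCyclic.commGroup (α := (conjK (V := V) hN).ker)).mul_comm ⟨a, ha⟩ ⟨b, hb⟩
    exact congrArg Subtype.val h1
  refine
    { nrm := inferInstance
      card := hV
      ker := by rw [hK]; exact bot_le
      free := fun c hc v hv h => free_of_comm hirr ((mem_kerK hf hN).1 hc) hv h
      comm := fun a ha b hb => by
        rw [hcommC a ha b hb]
        have : b * a * a⁻¹ * b⁻¹ = 1 := by group
        rw [this]
        exact Subgroup.one_mem _
      quot := hquot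
      gen := ?_
      deg := index_mem hf hirr hN ht hxt hx1
      dvd := index_dvd hirr hN hp hV
      stab := fun v hv => relIndex_dvd_stab _ inferInstance
        (fun c hc v hv h => free_of_comm hirr ((mem_kerK hf hN).1 hc) hv h) v hv
      uf := fun z hz hu Z hZ => by
        rw [hrel]
        exact uf_data hf hirr hN hp hV hquot hz hu Z hZ }
  obtain ⟨g, hg⟩ := hcyc.exists_generator
  have hpow : ∀ c : (conjK (V := V) hN).ker, ∃ k : ℕ, (g : H) ^ k = c := by
    intro c
    obtain ⟨k, hk⟩ := (mem_powers_iff_mem_zpowers).2 (hg c)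
    exact ⟨k, congrArg Subtype.val hk⟩
  refine ⟨g, g.2, ?_, ?_⟩
  · intro c hc
    obtain ⟨k, hk⟩ := hpow ⟨c, hc⟩
    refine ⟨k, ?_⟩
    rw [hk, mul_inv_cancel]
    exact Subgroup.one_mem _
  · intro Y hY
    apply hirr
    obtain ⟨k, hk⟩ := hpow ⟨x, (mem_kerK hf hN).2 rfl⟩
    have hY' : ∀ j : ℕ, ∀ y ∈ Y, (g : H) ^ j • y ∈ Y := by
      intro j
      induction j with
      | zero => intro y hy; rwa [pow_zero, one_smul]
      | succ j ih => intro y hy; rw [pow_succ, mul_smul]; exact ih _ (hY y hy)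
    intro w hw
    have h1 := hY' k w hw
    rwa [hk] at h1

end

end Cfsg.Agent.H670.Palfy
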