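import Cfsg.Agent.H670.Palfy.Structure
import Cfsg.Agent.H670.Palfy.Five

/-!
# The structure theorem for faithful modules, generic case (helper670)
-/

set_option autoImplicit false
set_option linter.unusedSectionVars false
set_option linter.style.haveILetI false

namespace Cfsg.Agent.H670.Palfy

open Subgroup

universe u v

section

open Cfsg.Agent.H273.PalfyKP

variable {H : Type u} [Group H] [Finite H] {V : Type v} [CommGroup V] [Finite V] [Nontrivial V]
  [MulDistribMulAction H V] {ℓ : ℕ} [hℓ : Fact ℓ.Prime]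

/-- An odd prime `p ≠ ℓ` whose elements have fixed points does not occur if `z = 2 ^ m + 1` (as
`H273.PalfyKP.hall_case`). -/
theorem hall_case' (hsol : Group.IsSolvable H) (hV : ∀ v : V, v ^ ℓ = 1)
    (hf : ∀ h : H, (∀ v : V, h • v = v) → h = 1) {n : ℕ} (hcard : Nat.card V = ℓ ^ n) {p : ℕ} [hp : Fact p.Prime]
    (hp2 : p ≠ 2) (hpℓ : p ≠ ℓ) (hfx : ∀ α : H, α ^ p = 1 → ∃ v : V, v ≠ 1 ∧ α • v = v)
    (hpH : p ∣ Nat.card H) {z : ℕ} [hz : Fact z.Prime]
    (hzℓ : ¬ z ∣ ℓ) (hzH : z ∣ Nat.card H) (hnz : n < z)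
    (hirr : ∀ ζ : H, ζ ^ z = 1 → ζ ≠ 1 → ∀ U : Subgroup V, (∀ u ∈ U, ζ • u ∈ U) → U = ⊥ ∨ U = ⊤)
    {m : ℕ} (hm : z = 2 ^ m + 1) : False := by
  -- no element of order `p` commutes with an element of order `z`
  have hno : ∀ ζ : H, ζ ^ z = 1 → ζ ≠ 1 → ∀ α : H, α ^ p = 1 → α * ζ = ζ * α → α = 1 := by
    intro ζ h1 h2 α h3 h4
    obtain ⟨v, hv, hfix⟩ := hfx α h3
    exact eq_one_of_commute hf (hirr ζ h1 h2) h4 hv hfix
  obtain ⟨J, hJ1, hJ2, -⟩ := Cfsg.Agent.OddOrderLocal.HallPi.exists_hall_ge_top ({p, z} : Set ℕ) (X := (⊥ : Subgroup H)) (by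
    intro q hq hd
    rw [Subgroup.card_bot, Nat.dvd_one] at hd
    exact absurd hd hq.one_lt.ne')
  have hdvd : ∀ q : ℕ, q.Prime → q ∈ ({p, z} : Set ℕ) → q ∣ Nat.card H → q ∣ Nat.card J := by
    intro q hq hqm hqH
    rw [← Subgroup.card_mul_index J] at hqH
    exact (hq.dvd_mul.1 hqH).resolve_right (hJ2 q hq hqm)
  obtain ⟨α, hα⟩ := exists_prime_orderOf_dvd_card' p (hdvd p hp.out (Or.inl rfl) hpH)
  obtain ⟨ζ, hζ⟩ := exists_prime_orderOf_dvd_card' z (hdvd z hz.out (Or.inr rfl) hzH)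
  have hα' : orderOf (α : H) = p := by rw [Subgroup.orderOf_coe, hα]
  have hζ' : orderOf (ζ : H) = z := by rw [Subgroup.orderOf_coe, hζ]
  have hα1 : (α : H) ≠ 1 := by
    intro h
    rw [h, orderOf_one] at hα'
    exact hp.out.one_lt.ne hα'
  have hζ1 : (ζ : H) ≠ 1 := by
    intro h
    rw [h, orderOf_one] at hζ'
    exact hz.out.one_lt.ne hζ'
  have hαp : (α : H) ^ p = 1 := orderOf_dvd_iff_pow_eq_one.1 hα'.dvd
  have hζz : (ζ : H) ^ z = 1 := orderOf_dvd_iff_pow_eq_one.1 hζ'.dvd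
  have hJnt : Nontrivial J := ⟨⟨α, 1, fun h => hα1 (congrArg Subtype.val h)⟩⟩
  have hJs : Group.IsSolvable J := inferInstance
  obtain ⟨q, N, hq, hNn, hN1, hNc, hNq⟩ := Cfsg.Agent.Solvable.HallAux.exists_normal_elementary (G := J)
  obtain ⟨g, hg⟩ : ∃ g : N, g ≠ 1 := by
    have : Nontrivial N := (Subgroup.nontrivial_iff_ne_bot N).2 hN1
    exact exists_ne 1
  have hg1 : ((g : J) : H) ≠ 1 := fun h => hg (Subtype.ext (Subtype.ext h))
  have hgq : ((g : J) : H) ^ q = 1 := by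
    have := congrArg Subtype.val (hNq g g.2)
    simpa using this
  have hqJ : q ∣ Nat.card J := by
    have h1 : orderOf ((g : J) : H) = q := orderOf_eq_prime hgq hg1 (hp := ⟨hq⟩)
    rw [← h1, Subgroup.orderOf_coe]
    exact orderOf_dvd_natCard _
  have hNcomm : ∀ x ∈ N, ∀ y ∈ N, x * y = y * x := fun x hx y hy =>
    congrArg Subtype.val (hNc.is_comm.comm ⟨x, hx⟩ ⟨y, hy⟩)
  rcases hJ1 q hq hqJ with h | h
  · -- `N` a `p`-group
    have hqp : q = p := h
    subst hqp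
    have hcomm := cent_abelian hV hf hcard (ζ : H) hz.out hζz hnz (N.map J.subtype) (by
      rintro _ ⟨x, hx, rfl⟩ _ ⟨y, hy, rfl⟩
      exact congrArg Subtype.val (hNcomm x hx y hy)) (by
      intro hd
      have h1 : IsPGroup q N := fun x => ⟨1, by rw [pow_one]; exact Subtype.ext (hNq x x.2)⟩
      obtain ⟨k, hk⟩ := IsPGroup.iff_card.1 h1
      rw [Subgroup.card_map_of_injective J.subtype_injective, hk] at hd
      exact hpℓ ((Nat.prime_dvd_prime_iff_eq hℓ.out hq).1 (hℓ.out.dvd_of_dvd_pow hd)).symm) (by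
      rintro _ ⟨x, hx, rfl⟩
      exact ⟨ζ * x * ζ⁻¹, hNn.conj_mem x hx ζ, rfl⟩) ((g : J) : H) ⟨g, g.2, rfl⟩
    exact hg1 (hno ζ hζz hζ1 _ hgq (mul_inv_eq_iff_eq_mul.1 hcomm).symm)
  · -- `N` a `z`-group
    have hqz : q = z := h
    subst hqz
    set γ : H := ((g : J) : H) with hγ
    have hγo : orderOf γ = q := orderOf_eq_prime hgq hg1 (hp := ⟨hq⟩)
    have h1 : (α : H) * γ * (α : H)⁻¹ ∈ Subgroup.zpowers γ := by
      refine mem_zpowers hV hf hq hzℓ (hirr γ hgq hg1) hgq hg1 (by rw [conj_pow, hgq]; group) ?_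
      exact congrArg Subtype.val (hNcomm (α * g * α⁻¹) (hNn.conj_mem g g.2 α) g g.2)
    rw [← mem_powers_iff_mem_zpowers] at h1
    obtain ⟨k, hk⟩ := h1
    have hk' : (α : H) * γ * (α : H)⁻¹ = γ ^ k := hk.symm
    have hpow : ∀ j : ℕ, (α : H) ^ j * γ * ((α : H) ^ j)⁻¹ = γ ^ (k ^ j) := by
      intro j
      induction j with
      | zero => simp
      | succ j ih =>
        have e1 : (α : H) ^ (j + 1) * γ * ((α : H) ^ (j + 1))⁻¹ = (α : H) * ((α : H) ^ j * γ * ((α : H) ^ j)⁻¹) * (α : H)⁻¹ := by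
          rw [pow_succ']; group
        rw [e1, ih, ← conj_pow, hk', ← pow_mul, pow_succ, mul_comm]
    have hkp : k ^ p ≡ 1 [MOD q] := by
      have h2 := hpow p
      rw [hαp, one_mul, inv_one, mul_one] at h2
      rw [← hγo]
      exact pow_eq_pow_iff_modEq.1 (by rw [pow_one]; exact h2.symm)
    have hk0 : (k : ZMod q) ≠ 0 := by
      intro h0
      have h2 : ((k ^ p : ℕ) : ZMod q) = ((1 : ℕ) : ZMod q) := (ZMod.natCast_eq_natCast_iff _ _ _).2 hkp
      rw [Nat.cast_pow, h0, zero_pow hp.out.ne_zero, Nat.cast_one] at h2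
      exact zero_ne_one h2
    have hk1 : (k : ZMod q) ^ p = 1 := by
      have h2 : ((k ^ p : ℕ) : ZMod q) = ((1 : ℕ) : ZMod q) := (ZMod.natCast_eq_natCast_iff _ _ _).2 hkp
      rwa [Nat.cast_pow, Nat.cast_one] at h2
    have hk2 : (k : ZMod q) ^ (2 ^ m) = 1 := by
      have e : q - 1 = 2 ^ m := by omega
      have h2 := ZMod.pow_card_sub_one_eq_one hk0
      rw [e] at h2
      exact h2
    have hk3 : (k : ZMod q) = 1 := by
      have h3 := pow_gcd_eq_one.2 ⟨hk1, hk2⟩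
      have h4 : p.gcd (2 ^ m) = 1 := by
        apply Nat.Coprime.pow_right
        exact (Nat.coprime_primes hp.out Nat.prime_two).2 hp2
      rwa [h4, pow_one] at h3
    have hk4 : k ≡ 1 [MOD q] := by
      rw [← ZMod.natCast_eq_natCast_iff, Nat.cast_one]
      exact hk3
    have h5 : γ ^ k = γ := by
      have := pow_eq_pow_iff_modEq.2 (show k ≡ 1 [MOD orderOf γ] by rw [hγo]; exact hk4)
      rwa [pow_one] at this
    rw [h5] at hk'
    exact hα1 (hno γ hgq hg1 α hαp (mul_inv_eq_iff_eq_mul.1 hk'))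

end

section

variable {H : Type u} [Group H] [Finite H] {V : Type v} [AddCommGroup V] [Finite V]
  [DistribMulAction H V]

/-- An element of primitive prime order acts irreducibly. -/
theorem irr_of_primitive {p n : ℕ} (hp : p.Prime) (hV : Nat.card V = p ^ n)
    (hexp : ∀ v : V, p • v = 0) (hf : ∀ h : H, (∀ v : V, h • v = v) → h = 1) {z : ℕ} [hz : Fact z.Prime]
    (hzn : ∀ m, z ∣ p ^ m - 1 ↔ n ∣ m) (hzp : ¬ z ∣ p) (x : H) (hx : x ^ z = 1) (hx1 : x ≠ 1)
    (W : AddSubgroup V) (hW : ∀ w ∈ W, x • w ∈ W) : W = ⊥ ∨ W = ⊤ := by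
  haveI : Fact p.Prime := ⟨hp⟩
  letI := multAct H V
  let W' : Subgroup (Multiplicative V) := AddSubgroup.toSubgroup W
  rcases H273.PalfyKP.irreducible (V := Multiplicative V) (ℓ := p) (n := n) (z := z)
    (fun v => hexp (Multiplicative.toAdd v)) (fun h hh => hf h fun v => hh (Multiplicative.ofAdd v)) hV
    hzn hzp x hx hx1 W' (fun u hu => hW _ hu) with h | h
  · left
    rw [eq_bot_iff]
    intro w hw
    have h1 : Multiplicative.ofAdd w ∈ W' := hw
    rw [h, Subgroup.mem_bot] at h1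
    exact h1
  · right
    rw [AddSubgroup.eq_top_iff']
    intro w
    have h1 : Multiplicative.ofAdd w ∈ W' := by rw [h]; exact Subgroup.mem_top _
    exact h1

/-- The structure theorem, faithful case, `p ^ n ≠ 2 ^ 6`. -/
theorem generic (hsol : Group.IsSolvable H) {p n s : ℕ} (hp : p.Prime) (hn : 0 < n)
    (hV : Nat.card V = p ^ n) (hirr : Irr H V) (hf : ∀ h : H, (∀ v : V, h • v = v) → h = 1)
    (hs : s.Prime) (hsp : s ≠ p) (hu : UF s H (⊥ : AddSubgroup V)) (Z : Sylow s H)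
    (hZ : ¬ Triv V (Z : Subgroup H)) (h6 : ¬ (p = 2 ∧ n = 6)) : ∃ C : Subgroup H, SLD H V C p n := by
  haveI hsf : Fact s.Prime := ⟨hs⟩
  haveI hpf : Fact p.Prime := ⟨hp⟩
  haveI : Nontrivial V := by
    rw [← Finite.one_lt_card_iff_nontrivial, hV]
    exact Nat.one_lt_pow hn.ne' hp.one_lt
  have hexp := exp_of_irr hp hn hV hirr
  obtain ⟨m, hm0, hmn, -, e1⟩ := hu.params hp hV hn Z (hu.card_ne_one hZ)
  have h2 : n ≠ 2 := by
    rintro rfl
    have hm1 : m = 1 := by omega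
    subst hm1
    have hcard : Nat.card (Sylow s H) = p + 1 := by
      have h3 : p ^ 2 - 1 = (p + 1) * (p - 1) := by
        have := Nat.sq_sub_sq p 1
        simpa using this
      rw [h3, pow_one] at e1
      have h4 : 0 < p - 1 := by have := hp.two_le; omega
      exact (Nat.eq_of_mul_eq_mul_right h4 e1).symm
    have h3 := card_sylow_modEq_one s H
    rw [hcard] at h3
    have h4 : s ∣ p := by
      have h5 := (Nat.modEq_iff_dvd' (by omega)).1 h3.symm
      simpa using h5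
    exact hsp ((Nat.prime_dvd_prime_iff_eq hs hp).1 h4)
  obtain ⟨z, hz, hzn, hnz, hzp⟩ := Cfsg.Agent.Lib.Zsigmondy.exists_primitive (a := p) (n := n) hp.two_le
    (by omega) (fun h => absurd h h2) h6
  haveI hzf : Fact z.Prime := ⟨hz⟩
  have hzS : z ∣ Nat.card (Sylow s H) := by
    have h3 : z ∣ p ^ n - 1 := (hzn n).2 (dvd_refl n)
    rw [e1] at h3
    refine (hz.dvd_mul.1 h3).resolve_right fun h4 => ?_
    have := Nat.le_of_dvd hm0 ((hzn m).1 h4)
    omega
  have hzH : z ∣ Nat.card H := (hzS.trans (Sylow.card_dvd_index Z)).trans (Subgroup.index_dvd_card _)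
  have hirrz : ∀ x : H, x ^ z = 1 → x ≠ 1 →
      ∀ W : AddSubgroup V, (∀ w ∈ W, x • w ∈ W) → W = ⊥ ∨ W = ⊤ :=
    fun x h3 h4 W hW => irr_of_primitive hp hV hexp hf hzn hzp x h3 h4 W hW
  by_cases hR : Cfsg.pCore z H = ⊥
  swap
  · obtain ⟨x, hx, hx1, hN⟩ := exists_normal_of_pCore hf hirrz hR
    exact ⟨_, sld_of_normal hf (hirrz x hx hx1) hN hp hV hz hx hx1⟩
  exfalso
  obtain ⟨x, hxo⟩ := exists_prime_orderOf_dvd_card' z hzH
  have hx : x ^ z = 1 := orderOf_dvd_iff_pow_eq_one.1 hxo.dvd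
  have hx1 : x ≠ 1 := by
    intro h
    rw [h, orderOf_one] at hxo
    exact hz.one_lt.ne hxo
  obtain ⟨t, ht, g, hg, hgne⟩ := H273.PalfyKP.exists_not_central hsol hR x hx hx1
  have hbot : ∀ q, Cfsg.pCore q H = ⊥ → t ≠ q := by
    rintro q hq rfl
    rw [hq, Subgroup.mem_bot] at hg
    apply hgne
    rw [hg]
    group
  have htz := hbot z hR
  have htp := hbot p (pCore_char_eq_bot hp hn hV hirr hf)
  have hnz' : n < z := by
    have h3 := Nat.le_of_dvd (by have := hz.two_le; omega) hnz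
    have h4 := hz.two_le
    omega
  obtain ⟨rfl, hz1, k, hk⟩ := cent_pgroup hp hV hexp hf x hz hx hnz' ht htz htp (Cfsg.pCore t H)
    (Lib.Cores.pCore_isPGroup t) (fun g hg => (Lib.Cores.pCore_normal t).conj_mem g hg x) ⟨g, hg, hgne⟩
  have hzm : z = 2 ^ k + 1 := by rw [hz1, hk]
  have hs2 := hbot s (hu.pCore_eq_bot hf)
  letI := multAct H V
  have hsH : s ∣ Nat.card H := by
    by_contra h
    apply hZ
    have h3 : (Z : Subgroup H) = ⊥ := by
      obtain ⟨j, hj⟩ := IsPGroup.iff_card.1 Z.isPGroup'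
      rcases Nat.eq_zero_or_pos j with h0 | h0
      · rw [h0, pow_zero] at hj
        exact Subgroup.card_eq_one.1 hj
      · exact absurd ((dvd_pow_self s h0.ne').trans (hj ▸ Subgroup.card_subgroup_dvd_card _)) h
    intro y hy v
    rw [h3, Subgroup.mem_bot] at hy
    rw [hy, one_smul]
  refine hall_case' (V := Multiplicative V) (ℓ := p) hsol (fun v => hexp (Multiplicative.toAdd v))
    (fun h hh => hf h fun v => hh (Multiplicative.ofAdd v)) hV hs2.symm hsp ?_ hsH hzp hzH hnz' ?_ hzm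
  · intro a ha
    have h3 : IsPGroup s (zpowers a) := by
      rintro ⟨y, i, rfl⟩
      refine ⟨1, ?_⟩
      rw [pow_one]
      apply Subtype.ext
      change (a ^ i) ^ s = 1
      rw [← zpow_natCast, ← zpow_mul, mul_comm, zpow_mul, zpow_natCast, ha, one_zpow]
    obtain ⟨A, hA⟩ := h3.exists_le_sylow
    obtain ⟨v, hv, hfix⟩ := hu.exists_fixed A
    refine ⟨Multiplicative.ofAdd v, fun h => hv (Multiplicative.ofAdd.injective h), ?_⟩
    exact congrArg Multiplicative.ofAdd (hfix a (hA (mem_zpowers a)))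
  · intro y hy hy1 U hU
    let U' : AddSubgroup V := Subgroup.toAddSubgroup' U
    rcases hirrz y hy hy1 U' (fun w hw => hU _ hw) with h | h
    · left
      rw [eq_bot_iff]
      intro w hw
      have h1 : Multiplicative.toAdd w ∈ U' := hw
      rw [h, AddSubgroup.mem_bot] at h1
      exact h1
    · right
      rw [Subgroup.eq_top_iff']
      intro w
      have h1 : Multiplicative.toAdd w ∈ U' := by rw [h]; exact AddSubgroup.mem_top _
      exact h1

end

end Cfsg.Agent.H670.Palfy
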