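import Cfsg.Agent.H501.LinPrim
import Cfsg.Agent.H348.Trans.Pairing
import Cfsg.Agent.H348.Trans.Indep
import Cfsg.Agent.Solvable.FpfComplement
import Cfsg.Agent.PermutationGroups.HalfTransField
import Cfsg.Agent.Lib.BenderMaximal

/-!
# Elements of primitive prime order in linear groups (helper670)

`H` acts faithfully on the additive group `V` of order `p ^ n`, `x ∈ H` has prime order `t`, a primitive
prime divisor of `p ^ n - 1`.
-/

set_option autoImplicit false
set_option linter.unusedSectionVars false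

namespace Cfsg.Agent.H670.Palfy

open Subgroup Cfsg.Agent.H501.LinPrim Cfsg.Agent.PermutationGroups.HalfTransField

/-- `x` has prime order `t`, a primitive prime divisor of `|V| - 1`. -/
structure Ppd (V : Type*) [AddCommGroup V] {H : Type*} [Group H] (p n t : ℕ) (x : H) : Prop where
  hp : p.Prime
  hV : Nat.card V = p ^ n
  ht : t.Prime
  htp : ¬ t ∣ p
  hprim : ∀ m, t ∣ p ^ m - 1 ↔ n ∣ m
  hx : orderOf x = t
  hn : 0 < n

variable {V : Type*} [AddCommGroup V] [Finite V] {H : Type*} [Group H] [Finite H]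
  [DistribMulAction H V] [FaithfulSMul H V] {p n t : ℕ} {x : H}

namespace Ppd

theorem n_lt (h : Ppd V p n t x) : n < t := by
  have h2 : t ∣ p ^ (t - 1) - 1 := by
    have h3 := Nat.ModEq.pow_totient (n := t) (x := p)
      ((Nat.Prime.coprime_iff_not_dvd h.ht).2 h.htp).symm
    rw [Nat.totient_prime h.ht] at h3
    exact (Nat.modEq_iff_dvd' (Nat.one_le_pow _ _ h.hp.pos)).mp h3.symm
  have h4 := (h.hprim _).1 h2
  have h5 := h.ht.two_le
  have := Nat.le_of_dvd (by omega) h4
  omega

theorem ne_one (h : Ppd V p n t x) : x ≠ 1 := by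
  intro h1
  have h2 := h.hx
  rw [h1, orderOf_one] at h2
  exact h.ht.one_lt.ne h2

theorem isPGroup (h : Ppd V p n t x) : IsPGroup t (zpowers x) :=
  IsPGroup.of_card (n := 1) (by rw [Nat.card_zpowers, h.hx, pow_one])

theorem fixS_zpowers (h : Ppd V p n t x) : fixS V (zpowers x) = ⊥ := by
  have : Fact t.Prime := ⟨h.ht⟩
  exact fixS_eq_bot h.hp h.hV h.htp h.hprim _ h.isPGroup (by rw [Ne, zpowers_eq_bot]; exact h.ne_one)

theorem irr (h : Ppd V p n t x) (W : AddSubgroup V) (hW : ∀ w ∈ W, x • w ∈ W) :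
    W = ⊥ ∨ W = ⊤ := by
  have : Fact t.Prime := ⟨h.ht⟩
  have hpow : ∀ k : ℕ, ∀ w ∈ W, x ^ k • w ∈ W := by
    intro k
    induction k with
    | zero => intro w hw; rwa [pow_zero, one_smul]
    | succ k ih => intro w hw; rw [pow_succ, mul_smul]; exact ih _ (hW w hw)
  refine irred h.hp h.hV h.htp h.hprim (zpowers x) h.isPGroup
    (by rw [Ne, zpowers_eq_bot]; exact h.ne_one) W ?_
  intro m hm w hw
  obtain ⟨k, rfl⟩ := (mem_powers_iff_mem_zpowers (x := x)).2 hm
  exact hpow k w hw

theorem nontrivial (h : Ppd V p n t x) : Nontrivial V := by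
  rw [← Finite.one_lt_card_iff_nontrivial, h.hV]
  exact Nat.one_lt_pow h.hn.ne' h.hp.one_lt

/-- A power of `x` outside `1` generates `x`. -/
theorem mem_zpowers_of (h : Ppd V p n t x) {b : H} (hb : b ∈ zpowers x) (hb1 : b ≠ 1) :
    x ∈ zpowers b := by
  have h1 : zpowers b ≤ zpowers x := by rwa [zpowers_le]
  have h2 : Nat.card (zpowers b) ∣ t := by
    rw [← h.hx, ← Nat.card_zpowers x]
    exact Subgroup.card_dvd_of_le h1
  have h3 : Nat.card (zpowers b) = t := by
    rcases (Nat.dvd_prime h.ht).1 h2 with h4 | h4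
    · rw [Subgroup.card_eq_one, zpowers_eq_bot] at h4
      exact absurd h4 hb1
    · exact h4
  have h5 : zpowers b = zpowers x :=
    Subgroup.eq_of_le_of_card_ge h1 (by rw [h3, Nat.card_zpowers, h.hx])
  rw [h5]
  exact mem_zpowers x

/-- Elements commuting with `x` act freely. -/
theorem free (h : Ppd V p n t x) {c : H} (hc : c * x = x * c) (hc1 : c ≠ 1) {v : V}
    (hv : c • v = v) : v = 0 := by
  let W : AddSubgroup V :=
    { carrier := {w | c • w = w}
      zero_mem' := smul_zero c
      add_mem' := fun {a b} ha hb => by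
        change c • (a + b) = a + b
        rw [smul_add, ha, hb]
      neg_mem' := fun {a} ha => by
        change c • (-a) = -a
        rw [smul_neg, ha] }
  rcases h.irr W (by
    intro w hw
    change c • x • w = x • w
    rw [smul_smul, hc, mul_smul]
    congr 1) with h1 | h1
  · have h2 : v ∈ W := hv
    rw [h1] at h2
    exact h2
  · exfalso
    apply hc1
    apply (‹FaithfulSMul H V›).eq_of_smul_eq_smul (α := V)
    intro w
    rw [one_smul]
    exact (h1 ▸ AddSubgroup.mem_top w : w ∈ W)

/-- `x` centralizes every commutative subgroup that it normalizes, of order prime to `p t`. -/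
theorem comm_of_abelian (h : Ppd V p n t x) (A : Subgroup H)
    (hAc : ∀ a ∈ A, ∀ b ∈ A, a * b = b * a) (hxA : ∀ a ∈ A, x * a * x⁻¹ ∈ A)
    (htA : ¬ t ∣ Nat.card A) (hpA : ¬ p ∣ Nat.card A) : ∀ a ∈ A, a * x = x * a := by
  classical
  have hVn := h.nontrivial
  -- the commutator homomorphism
  let f : A →* H :=
    { toFun := fun a => a * (x * (a : H)⁻¹ * x⁻¹)
      map_one' := by simp
      map_mul' := by
        intro a b
        have h1 : x * (a : H)⁻¹ * x⁻¹ ∈ A := hxA _ (A.inv_mem a.2)
        have h2 : x * (b : H)⁻¹ * x⁻¹ ∈ A := hxA _ (A.inv_mem b.2)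
        have h3 := hAc _ h1 b b.2
        have h4 : ((a * b : A) : H) * (x * ((a * b : A) : H)⁻¹ * x⁻¹) =
            a * (b * (x * (b : H)⁻¹ * x⁻¹) * (x * (a : H)⁻¹ * x⁻¹)) := by
          rw [Subgroup.coe_mul]; group
        rw [h4, mul_assoc (b : H), hAc _ h2 _ h1, ← mul_assoc (b : H), ← h3]
        simp only [mul_assoc] }
  have hf : ∀ a : A, f a = a * (x * (a : H)⁻¹ * x⁻¹) := fun _ => rfl
  have hN : f.range ≤ A := by
    rintro _ ⟨a, rfl⟩
    exact A.mul_mem a.2 (hxA _ (A.inv_mem a.2))
  have hxN : ∀ m ∈ f.range, x * m * x⁻¹ ∈ f.range := by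
    rintro _ ⟨a, rfl⟩
    refine ⟨⟨x * a * x⁻¹, hxA a a.2⟩, ?_⟩
    rw [hf, hf]
    change x * a * x⁻¹ * (x * (x * a * x⁻¹)⁻¹ * x⁻¹) = _
    group
  have hxN' : ∀ b ∈ zpowers x, ∀ m ∈ f.range, b * m * b⁻¹ ∈ f.range := by
    intro b hb m hm
    obtain ⟨k, rfl⟩ := (mem_powers_iff_mem_zpowers (x := x)).2 hb
    change x ^ k * m * (x ^ k)⁻¹ ∈ f.range
    induction k with
    | zero => simpa using hm
    | succ k ih =>
      have := hxN _ (ih (pow_mem (mem_zpowers x) k))
      have h2 : x ^ (k + 1) * m * (x ^ (k + 1))⁻¹ = x * (x ^ k * m * (x ^ k)⁻¹) * x⁻¹ := by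
        rw [pow_succ']; group
      rwa [h2]
  -- `C_{[A,x]}(x) = 1`
  have hfix : ∀ m ∈ f.range, m * x = x * m → m = 1 := by
    rintro _ ⟨a, rfl⟩ hm
    set m := f a with hmd
    have h1 : x * (a : H) * x⁻¹ = m⁻¹ * a := by
      rw [hmd, hf]; group
    have h2 : ∀ k : ℕ, x ^ k * (a : H) * (x ^ k)⁻¹ = (m⁻¹) ^ k * a := by
      intro k
      induction k with
      | zero => simp
      | succ k ih =>
        have h3 : x ^ (k + 1) * (a : H) * (x ^ (k + 1))⁻¹ = x * (x ^ k * a * (x ^ k)⁻¹) * x⁻¹ := by
          rw [pow_succ']; group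
        have h4 : Commute x (m⁻¹) := (show Commute x m from hm.symm).inv_right
        have h5 : x * ((m⁻¹) ^ k * (a : H)) * x⁻¹ = (m⁻¹) ^ k * (x * a * x⁻¹) := by
          rw [← mul_assoc x, (h4.pow_right k).eq]; simp only [mul_assoc]
        rw [h3, ih, h5, h1, pow_succ, mul_assoc]
    have h3 := h2 t
    have hxt : x ^ t = 1 := by rw [← h.hx]; exact pow_orderOf_eq_one x
    rw [hxt, one_mul, inv_one, mul_one] at h3
    have h4 : (m⁻¹) ^ t = 1 := by
      have : (m⁻¹) ^ t * (a : H) = 1 * a := by rw [← h3, one_mul]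
      exact mul_right_cancel this
    rw [inv_pow, inv_eq_one] at h4
    have h5 : orderOf m ∣ t := orderOf_dvd_of_pow_eq_one h4
    rcases (Nat.dvd_prime h.ht).1 h5 with h6 | h6
    · exact orderOf_eq_one_iff.1 h6
    · exfalso
      apply htA
      have hmA : m ∈ A := hN ⟨a, rfl⟩
      have := orderOf_dvd_natCard (⟨m, hmA⟩ : A)
      rwa [Subgroup.orderOf_mk, h6] at this
  -- fixed vectors of `[A, x]`
  have hinv : ∀ w ∈ fixS V f.range, x • w ∈ fixS V f.range := by
    intro w hw m hm
    have h1 : x⁻¹ * m * x ∈ f.range := by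
      have := hxN' x⁻¹ (inv_mem (mem_zpowers x)) m hm
      simpa using this
    have h2 := hw _ h1
    calc m • x • w = x • (x⁻¹ * m * x) • w := by
          rw [smul_smul, smul_smul]; congr 1; group
      _ = x • w := by rw [h2]
  rcases h.irr _ hinv with h1 | h1
  · exfalso
    let Φ : H →* MulAut (Multiplicative V) :=
      { toFun := fun g =>
          { toFun := fun v => Multiplicative.ofAdd (g • Multiplicative.toAdd v)
            invFun := fun v => Multiplicative.ofAdd (g⁻¹ • Multiplicative.toAdd v)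
            left_inv := fun v => by simp
            right_inv := fun v => by simp
            map_mul' := fun v w => by
              change Multiplicative.ofAdd (g • (Multiplicative.toAdd v + Multiplicative.toAdd w)) = _
              rw [smul_add]; rfl }
        map_one' := by
          apply MulEquiv.ext
          intro v
          change Multiplicative.ofAdd ((1 : H) • Multiplicative.toAdd v) = v
          rw [one_smul]; rfl
        map_mul' := by
          intro g k
          apply MulEquiv.ext
          intro v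
          change Multiplicative.ofAdd ((g * k : H) • Multiplicative.toAdd v) = _
          rw [mul_smul]; rfl }
    have hφ := Cfsg.Agent.Solvable.FpfComplement.pow_card_eq_one
      (V := Multiplicative V) (R := H) Φ f.range (zpowers x) hxN' ?_ ?_ ?_
    · obtain ⟨v, hv⟩ := exists_ne (0 : V)
      have h2 := hφ (Multiplicative.ofAdd v)
      have h3 : Nat.card f.range • v = 0 := h2
      have h4 : (p ^ n) • v = 0 := by
        rw [← h.hV]; exact card_nsmul_eq_zero'
      have h5 : Nat.Coprime (Nat.card f.range) (p ^ n) := by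
        apply Nat.Coprime.pow_right
        rw [Nat.coprime_comm, Nat.Prime.coprime_iff_not_dvd h.hp]
        intro h6
        exact hpA (h6.trans (Subgroup.card_dvd_of_le hN))
      have h6 : addOrderOf v ∣ Nat.gcd (Nat.card f.range) (p ^ n) :=
        Nat.dvd_gcd (addOrderOf_dvd_of_nsmul_eq_zero h3) (addOrderOf_dvd_of_nsmul_eq_zero h4)
      rw [h5, Nat.dvd_one, AddMonoid.addOrderOf_eq_one_iff] at h6
      exact hv h6
    · intro b hb hb1 m hm hmb
      apply hfix m hm
      obtain ⟨k, hk⟩ := h.mem_zpowers_of hb hb1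
      have h7 : Commute m b := hmb
      have h8 := h7.zpow_right k
      change b ^ k = x at hk
      rw [hk] at h8
      exact h8
    · intro v hv
      have h2 : (Multiplicative.toAdd v) ∈ fixS V f.range := by
        intro m hm
        exact hv m hm
      rw [h1] at h2
      exact h2
    · intro v hv
      have h2 : (Multiplicative.toAdd v) ∈ fixS V (zpowers x) := by
        intro m hm
        exact hv m hm
      rw [h.fixS_zpowers] at h2
      exact h2
  · intro a ha
    have h2 : f ⟨a, ha⟩ = 1 := by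
      apply (‹FaithfulSMul H V›).eq_of_smul_eq_smul (α := V)
      intro w
      rw [one_smul]
      exact (h1 ▸ AddSubgroup.mem_top w : w ∈ fixS V f.range) _ ⟨_, rfl⟩
    rw [hf] at h2
    have h3 : a * (x * a⁻¹ * x⁻¹) = 1 := h2
    have h4 : a = x * a * x⁻¹ := by
      have := eq_inv_of_mul_eq_one_left h3
      rw [mul_inv_rev, mul_inv_rev, inv_inv, inv_inv, ← mul_assoc] at this
      exact this
    calc a * x = x * a * x⁻¹ * x := by rw [← h4]
      _ = x * a := by group

end Ppd

end Cfsg.Agent.H670.Palfy
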