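import Cfsg.Agent.H670.Palfy.Generic
import Cfsg.Agent.H993.SLFaith
import Cfsg.Agent.H184.TwoSix

/-!
# The structure theorem (helper670, with helper993 and helper184)
-/

set_option autoImplicit false

namespace Cfsg.Agent.H670.Palfy

universe u v

theorem factSLF : FactSLF.{u, v} := by
  intro H V _ _ _ _ _ p n s hsol hp hn hV hirr hf hs hsp hu hZ
  obtain ⟨Z, hZ⟩ := hZ
  by_cases h6 : p = 2 ∧ n = 6
  · obtain ⟨rfl, rfl⟩ := h6
    exact (H184.TwoSix.not_two_six hsol hV hirr hf hs hsp hu Z hZ).elim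
  · exact generic hsol hp hn hV hirr hf hs hsp hu Z hZ h6

/-- **The structure theorem.** -/
theorem factSL : FactSL.{u, v} := H993.SLFaith.factSL_of_faithful factSLF

end Cfsg.Agent.H670.Palfy
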