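import Cfsg.Agent.H670.Palfy.Ppd
import Cfsg.Agent.H670.Palfy.FieldSld
import Cfsg.Agent.H273.PalfyKP

/-!
# The structure theorem `FactSL` (helper670)

`H` solvable, irreducible on `V` of order `p ^ n`, each nonzero vector is fixed by exactly one Sylow
`s`-subgroup, `s ≠ p`.
-/

set_option autoImplicit false
set_option linter.unusedSectionVars false
set_option linter.style.haveILetI false

namespace Cfsg.Agent.H670.Palfy

open Subgroup

universe u v

section

variable {H : Type u} [Group H] {V : Type v} [AddCommGroup V] [DistribMulAction H V]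

/-- The action on the multiplicative version. -/
@[reducible] def multAct (H : Type u) [Group H] (V : Type v) [AddCommGroup V] [DistribMulAction H V] :
    MulDistribMulAction H (Multiplicative V) where
  smul h v := Multiplicative.ofAdd (h • Multiplicative.toAdd v)
  one_smul v := congrArg Multiplicative.ofAdd (one_smul H (Multiplicative.toAdd v))
  mul_smul a b v := congrArg Multiplicative.ofAdd (mul_smul a b (Multiplicative.toAdd v))
  smul_one h := congrArg Multiplicative.ofAdd (smul_zero h)
  smul_mul h a b := congrArg Multiplicative.ofAdd (smul_add h (Multiplicative.toAdd a) (Multiplicative.toAdd b))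

theorem cent_pgroup [Finite V] {p n : ℕ} (hp : p.Prime) (hV : Nat.card V = p ^ n)
    (hexp : ∀ v : V, p • v = 0) (hf : ∀ h : H, (∀ v : V, h • v = v) → h = 1) (x : H) {r : ℕ}
    (hr : r.Prime) (hx : x ^ r = 1) (hn : n < r) {s : ℕ} (hs : s.Prime) (hsr : s ≠ r) (hsp : s ≠ p)
    (P : Subgroup H) [Finite P] (hP : IsPGroup s P) (hxP : ∀ g ∈ P, x * g * x⁻¹ ∈ P)
    (hne : ∃ g ∈ P, x * g * x⁻¹ ≠ g) : s = 2 ∧ r = n + 1 ∧ ∃ m : ℕ, n = 2 ^ m := by
  haveI : Fact p.Prime := ⟨hp⟩
  letI := multAct H V
  exact H273.PalfyKP.cent_pgroup (V := Multiplicative V) (ℓ := p) (fun v => hexp (Multiplicative.toAdd v))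
    (fun h hh => hf h fun v => hh (Multiplicative.ofAdd v)) hV x hr hx hn hs hsr hsp P hP hxP hne

/-- The exponent of an irreducible module. -/
theorem exp_of_irr [Finite V] {p n : ℕ} (hp : p.Prime) (hn : 0 < n) (hV : Nat.card V = p ^ n)
    (hirr : Irr H V) (v : V) : p • v = 0 := by
  let W : AddSubgroup V :=
    { carrier := {v | p • v = 0}
      zero_mem' := smul_zero p
      add_mem' := fun {a b} ha hb => by
        change p • (a + b) = 0
        rw [smul_add, show p • a = 0 from ha, show p • b = 0 from hb, add_zero]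
      neg_mem' := fun {a} ha => by
        change p • (-a) = 0
        rw [smul_neg, show p • a = 0 from ha, neg_zero] }
  haveI : Fact p.Prime := ⟨hp⟩
  have hW : W = ⊤ := by
    refine (hirr W ?_).resolve_left ?_
    · intro h w hw
      change p • h • w = 0
      rw [smul_comm, show p • w = 0 from hw, smul_zero]
    · intro hbot
      have h1 : p ∣ Nat.card V := by rw [hV]; exact dvd_pow_self p hn.ne'
      obtain ⟨w, hw⟩ := exists_prime_addOrderOf_dvd_card' p h1
      have h2 : w ∈ W := by
        change p • w = 0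
        rw [← hw]
        exact addOrderOf_nsmul_eq_zero w
      rw [hbot, AddSubgroup.mem_bot] at h2
      rw [h2, addOrderOf_zero] at hw
      exact hp.one_lt.ne hw
  have h1 : v ∈ W := by rw [hW]; exact AddSubgroup.mem_top _
  exact h1

theorem pCore_char_eq_bot [Finite H] [Finite V] {p n : ℕ} (hp : p.Prime) (hn : 0 < n)
    (hV : Nat.card V = p ^ n) (hirr : Irr H V) (hf : ∀ h : H, (∀ v : V, h • v = v) → h = 1) :
    Cfsg.pCore p H = ⊥ := by
  haveI : Fact p.Prime := ⟨hp⟩
  letI := multAct H V
  haveI : Nontrivial V := by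
    rw [← Finite.one_lt_card_iff_nontrivial, hV]
    exact Nat.one_lt_pow hn.ne' hp.one_lt
  refine H273.PalfyKP.pCore_char_eq_bot (V := Multiplicative V) (ℓ := p)
    (fun v => exp_of_irr hp hn hV hirr (Multiplicative.toAdd v))
    (fun h hh => hf h fun v => hh (Multiplicative.ofAdd v)) ?_
  intro W hW
  let W' : AddSubgroup V :=
    { carrier := {v | Multiplicative.ofAdd v ∈ W}
      zero_mem' := W.one_mem
      add_mem' := fun {a b} ha hb => W.mul_mem ha hb
      neg_mem' := fun {a} ha => W.inv_mem ha }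
  rcases hirr W' (fun h w hw => hW h _ hw) with h | h
  · left
    rw [eq_bot_iff]
    intro w hw
    have h1 : Multiplicative.toAdd w ∈ W' := hw
    rw [h, AddSubgroup.mem_bot] at h1
    exact h1
  · right
    rw [Subgroup.eq_top_iff']
    intro w
    have h1 : Multiplicative.toAdd w ∈ W' := by rw [h]; exact AddSubgroup.mem_top _
    exact h1

theorem UF.pCore_eq_bot [Finite H] [Nontrivial V] {s : ℕ} [Fact s.Prime]
    (hu : UF s H (⊥ : AddSubgroup V)) (hf : ∀ h : H, (∀ v : V, h • v = v) → h = 1) :
    Cfsg.pCore s H = ⊥ := by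
  rw [eq_bot_iff]
  intro h hh
  rw [Subgroup.mem_bot]
  apply hf
  intro v
  by_cases hv : v = 0
  · rw [hv, smul_zero]
  · obtain ⟨A, hA, -⟩ := hu v hv
    exact hA h (Lib.Cores.pCore_le_sylow A hh)

/-- Elements of order `t` commuting with the irreducible element `x` of order `t` are powers of `x`. -/
theorem mem_zpowers_of_comm [Finite V] [Nontrivial V] {x : H}
    (hf : ∀ h : H, (∀ v : V, h • v = v) → h = 1)
    (hirr : ∀ W : AddSubgroup V, (∀ w ∈ W, x • w ∈ W) → W = ⊥ ∨ W = ⊤) {t : ℕ} (ht : t.Prime)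
    (hxt : x ^ t = 1) (hx1 : x ≠ 1) {y : H} (hyt : y ^ t = 1) (hc : y * x = x * y) :
    y ∈ zpowers x := by
  haveI : Finite (AddMonoid.End V) := PermutationGroups.HalfTransField.finite_end
  letI fld : Field (Kx V x) := (kx_isField hirr).toField
  let a : Kx V x := ⟨PermutationGroups.HalfTransField.tau x, tau_x_mem⟩
  let b : Kx V x := ⟨PermutationGroups.HalfTransField.tau y, tau_mem_of_comm hirr hc⟩
  have hpow : ∀ (g : H) (i : ℕ), (PermutationGroups.HalfTransField.tau g : AddMonoid.End V) ^ i =
      PermutationGroups.HalfTransField.tau (g ^ i) := by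
    intro g i
    exact (map_pow (DistribMulAction.toAddMonoidEnd H V) g i).symm
  have hinj : ∀ g k : H, (PermutationGroups.HalfTransField.tau g : AddMonoid.End V) =
      PermutationGroups.HalfTransField.tau k → g = k := by
    intro g k h
    have h1 : g⁻¹ * k = 1 := by
      apply hf
      intro v
      have h2 := DFunLike.congr_fun h v
      change g • v = k • v at h2
      rw [mul_smul, ← h2, inv_smul_smul]
    exact inv_mul_eq_one.1 h1
  have ha : a ^ t = 1 := by
    apply Subtype.ext
    change (PermutationGroups.HalfTransField.tau x : AddMonoid.End V) ^ t = 1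
    rw [hpow, hxt, PermutationGroups.HalfTransField.tau_one]
  have ha1 : a ≠ 1 := by
    intro h
    apply hx1
    apply hinj
    rw [PermutationGroups.HalfTransField.tau_one]
    exact congrArg Subtype.val h
  have hb : b ^ t = 1 := by
    apply Subtype.ext
    change (PermutationGroups.HalfTransField.tau y : AddMonoid.End V) ^ t = 1
    rw [hpow, hyt, PermutationGroups.HalfTransField.tau_one]
  have hprim : IsPrimitiveRoot a t := by
    haveI : Fact t.Prime := ⟨ht⟩
    rw [← orderOf_eq_prime ha ha1]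
    exact IsPrimitiveRoot.orderOf a
  haveI : NeZero t := ⟨ht.ne_zero⟩
  obtain ⟨i, -, hi⟩ := hprim.eq_pow_of_pow_eq_one hb
  have h1 : x ^ i = y := by
    apply hinj
    rw [← hpow]
    exact congrArg Subtype.val hi
  rw [← h1]
  exact pow_mem (mem_zpowers x) i

/-- If `O_t(H) ≠ 1` and the elements of order `t` are irreducible, one of them generates a normal
subgroup. -/
theorem exists_normal_of_pCore [Finite H] [Finite V] [Nontrivial V]
    (hf : ∀ h : H, (∀ v : V, h • v = v) → h = 1) {t : ℕ} [ht : Fact t.Prime]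
    (hirr : ∀ x : H, x ^ t = 1 → x ≠ 1 →
      ∀ W : AddSubgroup V, (∀ w ∈ W, x • w ∈ W) → W = ⊥ ∨ W = ⊤)
    (hR : Cfsg.pCore t H ≠ ⊥) : ∃ x : H, x ^ t = 1 ∧ x ≠ 1 ∧ (zpowers x).Normal := by
  have hRn : (Cfsg.pCore t H).Normal := Lib.Cores.pCore_normal t
  have hP : IsPGroup t (Cfsg.pCore t H) := Lib.Cores.pCore_isPGroup t
  -- a central element of order `t`
  obtain ⟨x, hx1, hxt, hxR, hxc⟩ : ∃ x : H, x ≠ 1 ∧ x ^ t = 1 ∧ x ∈ Cfsg.pCore t H ∧
      ∀ y ∈ Cfsg.pCore t H, x * y = y * x := by
    haveI : Nontrivial (Cfsg.pCore t H) := (Subgroup.nontrivial_iff_ne_bot _).2 hR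
    haveI : Nontrivial (Subgroup.center (Cfsg.pCore t H)) := hP.center_nontrivial
    have hPc : IsPGroup t (Subgroup.center (Cfsg.pCore t H)) := hP.to_subgroup _
    have hd : t ∣ Nat.card (Subgroup.center (Cfsg.pCore t H)) := by
      obtain ⟨k, hk⟩ := IsPGroup.iff_card.1 hPc
      rcases Nat.eq_zero_or_pos k with h | h
      · exfalso
        rw [h, pow_zero] at hk
        have := Finite.one_lt_card (α := Subgroup.center (Cfsg.pCore t H))
        omega
      · rw [hk]
        exact dvd_pow_self t h.ne'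
    obtain ⟨x, hx⟩ := exists_prime_orderOf_dvd_card' t hd
    have hxt : x ^ t = 1 := orderOf_dvd_iff_pow_eq_one.1 hx.dvd
    refine ⟨((x : Cfsg.pCore t H) : H), ?_, ?_, (x : Cfsg.pCore t H).2, ?_⟩
    · intro h
      have h1 : x = 1 := Subtype.ext (Subtype.ext h)
      rw [h1, orderOf_one] at hx
      exact ht.out.one_lt.ne hx
    · have h2 := congrArg (fun w : Subgroup.center (Cfsg.pCore t H) => ((w : Cfsg.pCore t H) : H)) hxt
      simpa using h2
    · intro y hy
      have h1 := Subgroup.mem_center_iff.1 x.2 ⟨y, hy⟩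
      exact (congrArg Subtype.val h1).symm
  refine ⟨x, hxt, hx1, ⟨?_⟩⟩
  rintro _ ⟨i, rfl⟩ g
  have h1 : g * x * g⁻¹ ∈ zpowers x := by
    refine mem_zpowers_of_comm hf (hirr x hxt hx1) ht.out hxt hx1 ?_ ?_
    · rw [conj_pow, hxt]; group
    · exact (hxc _ (hRn.conj_mem x hxR g)).symm
  have h2 : g * x ^ i * g⁻¹ = (g * x * g⁻¹) ^ i := by rw [conj_zpow]
  change g * x ^ i * g⁻¹ ∈ zpowers x
  rw [h2]
  exact zpow_mem h1 i

end

end Cfsg.Agent.H670.Palfy
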